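import Cfsg.Agent.Geo.SpFourOdd.Operators
import Cfsg.Agent.Geo.FrameFive.Key
import Cfsg.Agent.Elusive.PauliMinus

/-!
The normaliser of a group of minus type of order `32` in `Sp₄(p)` is maximal.
-/

set_option autoImplicit false
set_option linter.unusedSectionVars false
set_option maxHeartbeats 1000000

namespace CfsgLib.Geo.SpFourOdd

open Matrix Cfsg CfsgLib.Geo.SpTv QuadraticMap CfsgLib.Forms CfsgLib.Quad CfsgLib.Elusive

variable {F : Type*} [Field F]

/-- Five vectors giving the five involutions. -/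
theorem exists_frame (h2 : (2 : F) ≠ 0) {R : Subgroup (GL (Fin 2 ⊕ Fin 2) F)}
    (hRf : R ≤ spGL 2 F) (hS : PauliMinus.Grp R) {e : Fin 5 → PauliMinus.M4 F}
    (hE : PauliMinus.Five R e) :
    ∃ Θ : (Fin 5 → F) ≃ₗ[F] (Unit ⊕ (Fin 2 ⊕ Fin 2) → F),
      (∀ x, oddQ (F := F) 2 (Θ x) = 1 * OFrame.Q0 F 5 x) ∧ ∀ i, op (Θ (OFrame.e i)) = e i := by
  classical
  have hne : ∀ i, e i ≠ 1 ∧ e i ≠ -1 := fun i =>
    hS.ne_of_anti (hE.mem i) (hE.mem (i + 1)) (hE.anti i (i + 1) ((by decide : ∀ k : Fin 5, k ≠ k + 1) i))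
  have hop : ∀ i, op (opInv (e i)) = e i := fun i => by
    refine op_opInv h2 (fun x y => ?_) (PauliMinus.trace_eq_zero hS (hE.mem i) (hne i).1 (hne i).2)
    obtain ⟨g, hg, hge⟩ := hE.mem i
    conv_rhs => rw [← form_mulVec (hRf hg)]
    rw [hge, Matrix.mulVec_mulVec, hE.sq, Matrix.one_mulVec]
  set L : (Fin 5 → F) →ₗ[F] (Unit ⊕ (Fin 2 ⊕ Fin 2) → F) :=
    Fintype.linearCombination F fun i => opInv (e i) with hL
  have hLe : ∀ i, L (OFrame.e i) = opInv (e i) := fun i => by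
    simp [hL, OFrame.e, Fintype.linearCombination_apply_single]
  have hopL : ∀ x, op (L x) = ∑ i, x i • e i := fun x => by
    simp only [hL, Fintype.linearCombination_apply, map_sum, map_smul, hop]
  have hsq : ∀ x : Fin 5 → F, (∑ i, x i • e i) * (∑ i, x i • e i) =
      (x ⬝ᵥ x) • (1 : PauliMinus.M4 F) := by
    intro x
    suffices h : ∀ S : Finset (Fin 5), (∑ i ∈ S, x i • e i) * (∑ i ∈ S, x i • e i) =
        (∑ i ∈ S, x i * x i) • (1 : PauliMinus.M4 F) from h _
    intro S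
    induction S using Finset.induction_on with
    | empty => simp
    | insert a S ha ih =>
      have hc : (x a • e a) * (∑ i ∈ S, x i • e i) + (∑ i ∈ S, x i • e i) * (x a • e a) = 0 := by
        rw [Finset.mul_sum, Finset.sum_mul, ← Finset.sum_add_distrib]
        refine Finset.sum_eq_zero fun i hi => ?_
        rw [smul_mul_smul_comm, smul_mul_smul_comm, hE.anti a i (fun h => ha (h ▸ hi)), mul_comm (x i),
          smul_neg, neg_add_cancel]
      rw [Finset.sum_insert ha, Finset.sum_insert ha, add_mul, mul_add, mul_add, ih,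
        smul_mul_smul_comm, hE.sq]
      linear_combination (norm := module) hc
  have hQ : ∀ x, oddQ (F := F) 2 (L x) = 1 * OFrame.Q0 F 5 x := fun x => by
    have h := op_sq (L x)
    rw [hopL, hsq] at h
    have h' := congrFun (congrFun h (Sum.inl 0)) (Sum.inl 0)
    simp at h'
    rw [one_mul, OFrame.Q0_apply, ← h']
  have hinj : Function.Injective L := by
    rw [injective_iff_map_eq_zero]
    intro x hx
    funext i
    have h1 : polar (oddQ (F := F) 2) (L x) (L (OFrame.e i)) = 0 := by rw [hx, polar_zero_left]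
    rw [QuadraticMap.polar, ← map_add, hQ, hQ, hQ, OFrame.Q0_apply, OFrame.Q0_apply, OFrame.Q0_apply,
      add_dotProduct, dotProduct_add, dotProduct_add, OFrame.dot_e, OFrame.e_dot] at h1
    exact (mul_eq_zero.1 (show (2 : F) * x i = 0 by linear_combination h1)).resolve_left h2
  refine ⟨LinearEquiv.ofBijective L ⟨hinj, ?_⟩, hQ, fun i => ?_⟩
  · rw [← LinearMap.range_eq_top]
    refine Submodule.eq_top_of_finrank_eq ?_
    rw [LinearMap.finrank_range_of_inj hinj]
    simp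
  · exact (congrArg op (hLe i)).trans (hop i)

/-- The normaliser is maximal, the group given by the facts used about it. -/
theorem pauli_maximal_of_grp [Fintype F] {p : ℕ} (hp : p.Prime) (hcard : Fintype.card F = p)
    {R : Subgroup (GL (Fin 2 ⊕ Fin 2) F)} (hRf : R ≤ spGL 2 F) (hS : PauliMinus.Grp R) :
    Geo.IsMaximalIn (spGL 2 F) (Geo.subgroupNormalizer R ⊓ spGL 2 F) := by
  classical
  have : Fact p.Prime := ⟨hp⟩
  have : CharP F p := charP_of_card_eq_prime hcard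
  have hcard' : Nat.card F = p := by rw [Nat.card_eq_fintype_card, hcard]
  have h2 : (2 : F) ≠ 0 := hS.two
  obtain ⟨e, hE⟩ := PauliMinus.exists_five hS
  obtain ⟨Θ, hQ, hop⟩ := exists_frame h2 hRf hS hE
  obtain ⟨Ψ, hΨ⟩ : ∃ Ψ : OFrame.O F 5 ≃* oGroup (oddQ (F := F) 2),
      ∀ g x, (Ψ g).1 (Θ x) = Θ (g.1 x) :=
    ⟨OFrame.simEquiv (oddQ 2) one_ne_zero Θ hQ, OFrame.simEquiv_apply (oddQ 2) one_ne_zero Θ hQ⟩
  set φ : spGL 2 F →* OFrame.O F 5 := Ψ.symm.toMonoidHom.comp (phi h2) with hφ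
  have hφop : ∀ (g : spGL 2 F) (x : Fin 5 → F), op (Θ ((φ g).1 x)) =
      (g.1 : Matrix _ _ F) * op (Θ x) * ((g.1⁻¹ : GL (Fin 2 ⊕ Fin 2) F) : Matrix _ _ F) := fun g x => by
    rw [← op_phi h2 g, ← hΨ]
    simp [hφ]
  have hrange : φ.range = commutator (OFrame.O F 5) := by
    rw [hφ, MonoidHom.range_comp, phi_range h2, commutator_def, Subgroup.map_commutator,
      Subgroup.map_top_of_surjective _ Ψ.symm.surjective, ← commutator_def]
  -- the normaliser is the monomial part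
  have hiff : ∀ g : spGL 2 F, (g : GL (Fin 2 ⊕ Fin 2) F) ∈ Geo.subgroupNormalizer R ↔
      OFrame.Mono (φ g) := by
    intro g
    set y := (g : GL (Fin 2 ⊕ Fin 2) F) with hy
    constructor
    · intro hN i
      obtain ⟨a, ha, hae⟩ := hE.mem i
      have hmem : y * a * y⁻¹ ∈ R := (Subgroup.mem_normalizer_iff.1 hN a).1 ha
      have hval : ((y * a * y⁻¹ : GL (Fin 2 ⊕ Fin 2) F) : Matrix _ _ F) = op (Θ ((φ g).1 (OFrame.e i))) := by
        rw [hφop, hop, ← hae, Units.val_mul, Units.val_mul]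
      obtain ⟨j, hj⟩ : ∃ j, ((y * a * y⁻¹ : GL (Fin 2 ⊕ Fin 2) F) : Matrix _ _ F) = e j ∨
          ((y * a * y⁻¹ : GL (Fin 2 ⊕ Fin 2) F) : Matrix _ _ F) = -e j := by
        have ha2 : a * a = 1 := Units.ext (by rw [Units.val_mul, hae, hE.sq, Units.val_one])
        have hne : e i ≠ 1 ∧ e i ≠ -1 :=
          hS.ne_of_anti (hE.mem i) (hE.mem (i + 1)) (hE.anti i (i + 1) ((by decide : ∀ k : Fin 5, k ≠ k + 1) i))
        have hback : (a : Matrix _ _ F) = ((y⁻¹ : GL (Fin 2 ⊕ Fin 2) F) : Matrix _ _ F) *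
            ((y * a * y⁻¹ : GL (Fin 2 ⊕ Fin 2) F) : Matrix _ _ F) * (y : Matrix (Fin 2 ⊕ Fin 2) (Fin 2 ⊕ Fin 2) F) := by
          rw [← Units.val_mul, ← Units.val_mul]; congr 1; group
        refine hE.involution hS ⟨_, hmem, rfl⟩ ?_ (fun h => hne.1 ?_) fun h => hne.2 ?_
        · rw [← Units.val_mul, show y * a * y⁻¹ * (y * a * y⁻¹) = y * (a * a) * y⁻¹ by group, ha2,
            mul_one, mul_inv_cancel, Units.val_one]
        · rw [← hae, hback, h, mul_one, Units.inv_mul]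
        · rw [← hae, hback, h, mul_neg_one, neg_mul, Units.inv_mul]
      rw [hval] at hj
      have hsupp : ∀ c : F, c ≠ 0 → (φ g).1 (OFrame.e i) = c • OFrame.e j →
          (OFrame.supp ((φ g).1 (OFrame.e i))).card ≤ 1 := fun c hc hce => by
        rw [hce, OFrame.supp_smul hc, OFrame.supp_e, Finset.card_singleton]
      rcases hj with hj | hj
      · exact hsupp 1 one_ne_zero (Θ.injective (op_injective (by rw [one_smul, hj, hop])))
      · exact hsupp (-1) (neg_ne_zero.2 one_ne_zero)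
          (Θ.injective (op_injective (by rw [neg_one_smul, map_neg, map_neg, hj, hop])))
    · intro hm
      refine PauliMinus.mem_normalizer_of hS hE y fun i => ?_
      obtain ⟨j, s, hs, hj⟩ := hm.image i
      have h := hφop g (OFrame.e i)
      rw [hj, map_smul, map_smul, hop, hop] at h
      refine ⟨s • e j, ?_, ?_⟩
      · rcases mul_self_eq_one_iff.1 hs with rfl | rfl
        · rw [one_smul]; exact hE.mem j
        · rw [neg_one_smul]; exact (hE.mem j).neg hS
      · rw [h, Matrix.mul_assoc, Units.inv_mul, Matrix.mul_one]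
  have hmax := OFrame.monoSub_maximal_five p hcard' h2
  refine ⟨lt_of_le_of_ne inf_le_right fun h => ?_, fun M hHM hMG => ?_⟩
  · refine absurd (le_antisymm inf_le_right fun x hx => ?_) hmax.1.ne
    rw [← hrange] at hx
    obtain ⟨g, rfl⟩ := hx
    exact ⟨(hiff g).1 ((h.ge g.2).1), hrange ▸ ⟨g, rfl⟩⟩
  set M' := (M.subgroupOf (spGL 2 F)).map φ with hM'
  have hM'le : M' ≤ commutator (OFrame.O F 5) := hrange ▸ Subgroup.map_le_range _ _
  have hge : OFrame.monoSub F 5 ⊓ commutator (OFrame.O F 5) ≤ M' := by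
    intro x hx
    obtain ⟨hxm, hxc⟩ := Subgroup.mem_inf.1 hx
    rw [← hrange] at hxc
    obtain ⟨g, rfl⟩ := hxc
    exact Subgroup.mem_map_of_mem _ (Subgroup.mem_subgroupOf.2 (hHM ⟨(hiff g).2 hxm, g.2⟩))
  rcases hmax.2 M' hge hM'le with h | h
  · refine Or.inl (le_antisymm (fun x hx => ⟨?_, hMG hx⟩) hHM)
    exact (hiff ⟨x, hMG hx⟩).2 ((h.le (Subgroup.mem_map_of_mem φ
      (show (⟨x, hMG hx⟩ : spGL 2 F) ∈ M.subgroupOf (spGL 2 F) from hx))).1)
  · refine Or.inr (le_antisymm hMG fun x hx => ?_)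
    obtain ⟨m, hm, hmx⟩ : φ ⟨x, hx⟩ ∈ M' := by rw [h, ← hrange]; exact ⟨_, rfl⟩
    obtain ⟨z, hz⟩ : ∃ z : spGL 2 F, z = m⁻¹ * ⟨x, hx⟩ := ⟨_, rfl⟩
    have hk : φ z = 1 := by rw [hz, map_mul, map_inv, hmx, inv_mul_cancel]
    have hmz : (⟨x, hx⟩ : spGL 2 F) = m * z := by rw [hz, mul_inv_cancel_left]
    have hzm : OFrame.Mono (φ z) := hk.symm ▸ OFrame.mono_one
    have hN : (z : GL (Fin 2 ⊕ Fin 2) F) ∈ M := hHM ⟨(hiff z).2 hzm, z.2⟩
    have hm' : (m : GL (Fin 2 ⊕ Fin 2) F) ∈ M := hm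
    have hx' : x = (m : GL (Fin 2 ⊕ Fin 2) F) * (z : GL (Fin 2 ⊕ Fin 2) F) :=
      congrArg Subtype.val hmz
    exact hx' ▸ M.mul_mem hm' hN

/-- The normaliser is maximal. -/
theorem pauli_maximal [Fintype F] {p : ℕ} (hp : p.Prime) (hcard : Fintype.card F = p)
    (hodd : Odd (Fintype.card F)) {R : Subgroup (GL (Fin 2 ⊕ Fin 2) F)}
    (hRs : Geo.IsSymplecticTypeGroup 2 R) (hRi : Geo.ActsAbsolutelyIrreducibly (Geo.matrixSet R))
    (hRf : R ≤ spGL 2 F) (hR5 : Nat.card R = 32) (hRZ : Nat.card (Subgroup.center R) = 2)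
    (hRm : Geo.IsOfMinusType 2 R) :
    Geo.IsMaximalIn (spGL 2 F) (Geo.subgroupNormalizer R ⊓ spGL 2 F) := by
  classical
  have : Fact p.Prime := ⟨hp⟩
  have : CharP F p := charP_of_card_eq_prime hcard
  have h2 : (2 : F) ≠ 0 := by
    intro h
    have h' : ((2 : ℕ) : F) = 0 := by exact_mod_cast h
    rw [CharP.cast_eq_zero_iff F p] at h'
    have := (Nat.prime_two.eq_one_or_self_of_dvd _ h').resolve_left hp.one_lt.ne'
    rw [hcard, this] at hodd
    exact absurd hodd (by decide)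
  have hS : PauliMinus.Grp R := PauliMinus.grp_of_data h2 hRs hRi hRf (by rw [hR5]; norm_num) hRZ hRm
  exact pauli_maximal_of_grp hp hcard hRf hS

end CfsgLib.Geo.SpFourOdd
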