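/-
The normaliser of a self-adjoint quadratic field is maximal in the four-dimensional symplectic group over every
finite field with more than two elements.
-/
import Cfsg.Agent.Geo.SympFour.Field
import Mathlib.FieldTheory.Finite.Basic

set_option autoImplicit false
set_option linter.unusedSectionVars false

namespace CfsgLib.Geo.SpFourOdd

open Matrix Cfsg Cfsg.Geo CfsgLib.Symp CfsgLib.Geo.SpTv CfsgLib.Geo.SpFour

variable {F : Type*} [Field F] [Finite F]

local notation "E" => Fin 2 ⊕ Fin 2 → F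
local notation "GLE" => GL (Fin 2 ⊕ Fin 2) F
local notation "Mat" => Matrix (Fin 2 ⊕ Fin 2) (Fin 2 ⊕ Fin 2) F

variable {K : Subalgebra F (Matrix (Fin 2 ⊕ Fin 2) (Fin 2 ⊕ Fin 2) F)}
  {j : Matrix (Fin 2 ⊕ Fin 2) (Fin 2 ⊕ Fin 2) F} {p r : F} (hQ : QuadGen K j p r)

include hQ

/-- Any overgroup outside the normaliser contains every transvection. -/
theorem field_key (hsq : ∀ a : F, ∃ s t, s ^ 2 + t ^ 2 = a) (hq : ∃ τ : F, τ ≠ 0 ∧ τ ≠ 1)
    {M : Subgroup GLE} (hM : subalgebraNormalizer K ⊓ spGL 2 F ≤ M) (hMI : M ≤ spGL 2 F)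
    (hMX : ¬ M ≤ subalgebraNormalizer K) : spGL 2 F ≤ M := by
  obtain ⟨g, hgM, hgK⟩ := SetLike.not_le_iff_exists.1 hMX
  obtain ⟨x1, hx1⟩ : ∃ x : E, ∀ a b : F, (g : Mat) *ᵥ (j *ᵥ x) ≠
      a • ((g : Mat) *ᵥ x) + b • (j *ᵥ ((g : Mat) *ᵥ x)) := by
    by_contra hcon
    push Not at hcon
    exact hgK (mem_normalizer_of_lines hQ g hcon)
  set v := (g : Mat) *ᵥ x1 with hv
  set a := j *ᵥ v with ha
  set b := (g : Mat) *ᵥ (j *ᵥ x1) with hb
  have hv0 : v ≠ 0 := fun e => hx1 0 0 (by
    have hx0 : x1 = 0 := by rw [← inv_mulVec_mulVec g x1, ← hv, e, Matrix.mulVec_zero]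
    simp [hb, ha, hv, hx0])
  have hva : form v a = 0 := hQ.alt v
  have hav : form a v = 0 := alt' hQ v
  have hbv : form b v = 0 := by rw [hb, hv, form_mulVec (hMI hgM), alt' hQ]
  set β := form a b with hβdef
  have hβ : β ≠ 0 := fun e => by
    obtain ⟨c, d, he⟩ := mem_line_of_perp hQ hv0 (y := b) (by rw [form_swap, hbv, neg_zero]) e
    exact hx1 c d he
  -- shears fixing `v`
  have sha : ∀ C : F, ∃ u ∈ M, (u : Mat) *ᵥ v = v ∧
      ∀ x, form x v = 0 → (u : Mat) *ᵥ x = x + (C * form x a) • a := fun C => by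
    obtain ⟨u, hu, hue⟩ := exists_ktv hQ v 0 C
    refine ⟨u, hM hu, ?_, fun x hx => ?_⟩
    · simp [hue, form_self, hva, ← ha]
    · simp [hue, hx, ← ha]
  have shb : ∀ C : F, ∃ u ∈ M, (u : Mat) *ᵥ v = v ∧
      ∀ x, form x v = 0 → (u : Mat) *ᵥ x = x + (C * form x b) • b := fun C => by
    obtain ⟨u, hu, hue⟩ := exists_ktv hQ x1 0 C
    have e : ∀ x, form x v = 0 → ((g * u * g⁻¹ : GLE) : Mat) *ᵥ x = x + (C * form x b) • b := by
      intro x hx
      set y := ((g⁻¹ : GLE) : Mat) *ᵥ x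
      have hxy : x = (g : Mat) *ᵥ y := (mulVec_inv_mulVec g x).symm
      have h1 : form y x1 = 0 := by rw [← form_mulVec (hMI hgM), ← hxy]; exact hx
      have h2 : form x b = form y (j *ᵥ x1) := by rw [hxy, hb, form_mulVec (hMI hgM)]
      rw [mul_mulVec, mul_mulVec, show ((g⁻¹ : GLE) : Mat) *ᵥ x = y from rfl, hue, h1, h2,
        Matrix.mulVec_add, Matrix.mulVec_add, Matrix.mulVec_smul, Matrix.mulVec_smul, ← hxy, ← hb]
      simp
    refine ⟨g * u * g⁻¹, M.mul_mem (M.mul_mem hgM (hM hu)) (M.inv_mem hgM), ?_, e⟩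
    rw [e v (form_self v), form_swap v b, hbv]
    simp
  -- one root element
  obtain ⟨A, hAM, s, hA⟩ : ∃ A ∈ M, ∃ s, IsSE (1 : F) A v a s := by
    obtain ⟨u, hu, hue⟩ := exists_ktv hQ v 1 0
    refine ⟨u, hM hu, -p, fun y => ?_⟩
    rw [hue, be, be, ← ha]
    module
  have conjv : ∀ {u : GLE} {B : GLE} {x : E} {t : F}, u ∈ M → (u : Mat) *ᵥ v = v → B ∈ M →
      IsSE (1 : F) B v x t → u * B * u⁻¹ ∈ M ∧ IsSE (1 : F) (u * B * u⁻¹) v ((u : Mat) *ᵥ x) t := by
    intro u B x t hu huv hB hBe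
    refine ⟨M.mul_mem (M.mul_mem hu hB) (M.inv_mem hu), ?_⟩
    have := hBe.conj (hMI hu)
    rwa [huv] at this
  obtain ⟨c, hc0, hcM⟩ : ∃ c : F, c ≠ 0 ∧ stv v c ∈ M := by
    by_contra hcon
    push Not at hcon
    have huniq : ∀ {B B' : GLE} {x : E} {t t' : F}, form x v = 0 → B ∈ M → B' ∈ M → IsSE (1 : F) B v x t →
        IsSE (1 : F) B' v x t' → t = t' := by
      intro B B' x t t' hx hB hB' hBe hBe'
      have h1 := hBe.mul hx (show form (-x) v = 0 by rw [← neg_one_smul F x, form_smul_left, hx, mul_zero])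
        (hBe'.inv hx)
      rw [add_neg_cancel, show be 1 (-x) x = 0 by
        rw [be, ← neg_one_smul F x, form_smul_left, form_self, mul_zero, mul_zero], add_zero] at h1
      by_contra hne
      refine hcon (1 * (t + -t')) (by rw [one_mul, ← sub_eq_add_neg]; exact sub_ne_zero.2 hne) ?_
      rw [← h1.eq_stv]
      exact M.mul_mem hB (M.inv_mem hB')
    have hba : form b a = -β := by rw [form_swap]
    have P1 : ∀ t : F, ∃ B ∈ M, IsSE (1 : F) B v (a + t • b) s := fun t => by
      obtain ⟨u, hu, huv, hue⟩ := shb (t / β)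
      have h1 := conjv hu huv hAM hA
      rw [hue a hav, ← hβdef, div_mul_cancel₀ t hβ] at h1
      exact ⟨_, h1.1, h1.2⟩
    have P2 : ∀ t : F, t ≠ 0 → s = -t * β := fun t ht => by
      obtain ⟨B, hB, hBe⟩ := P1 t
      have htb : form (t • b) v = 0 := by rw [form_smul_left, hbv, mul_zero]
      have hatb : form (a + t • b) v = 0 := by rw [form_add_left, hav, htb, add_zero]
      have h1 := hBe.mul hatb (show form (-a) v = 0 by rw [← neg_one_smul F a, form_smul_left, hav, mul_zero])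
        (hA.inv hav)
      rw [show a + t • b + -a = t • b by abel, show s + -s + be 1 (-a) (a + t • b) = -t * β by
        rw [be, ← neg_one_smul F a, form_smul_left, form_add_right, form_smul_right, form_self, hβdef]; ring] at h1
      obtain ⟨u, hu, huv, hue⟩ := sha (-(1 / (t * β)))
      have h2 := conjv hu huv (M.mul_mem hB (M.inv_mem hAM)) h1
      rw [hue _ htb, show -(1 / (t * β)) * form (t • b) a = 1 by rw [form_smul_left, hba]; field_simp,
        one_smul, add_comm (t • b)] at h2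
      exact huniq hatb hB h2.1 hBe h2.2
    obtain ⟨τ, hτ0, hτ1⟩ := hq
    have h1 := P2 1 one_ne_zero
    rw [P2 τ hτ0] at h1
    exact hτ1 (mul_right_cancel₀ hβ (by linear_combination -h1))
  -- all transvections
  have hfull : Full M v := fun d => by
    rcases eq_or_ne d 0 with rfl | hd
    · rw [show stv v (0 : F) = 1 from gl_ext_mulVec fun x => by simp [stv_mulVec]]
      exact M.one_mem
    obtain ⟨s1, t1, hst⟩ := hsq (d / c)
    have hone : ∀ t : F, stv v (t ^ 2 * c) ∈ M := fun t => by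
      rcases eq_or_ne t 0 with rfl | ht0
      · rw [zero_pow (by norm_num), zero_mul,
          show stv v (0 : F) = 1 from gl_ext_mulVec fun x => by simp [stv_mulVec]]
        exact M.one_mem
      obtain ⟨u, hu, hue⟩ := field_move hQ hv0 (smul_ne_zero ht0 hv0)
      have h1 := M.mul_mem (M.mul_mem (hM hu) hcM) (M.inv_mem (hM hu))
      rwa [stv_conj hu.2, hue, stv_smul] at h1
    have h1 := M.mul_mem (hone s1) (hone t1)
    rwa [stv_add, ← add_mul, hst, div_mul_cancel₀ _ hc0] at h1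
  refine spGL_le_of_full fun y => ?_
  rcases eq_or_ne y 0 with rfl | hy
  · exact full_zero
  obtain ⟨u, hu, rfl⟩ := field_move hQ hv0 hy
  exact full_conj hMI hfull (hM hu)

omit hQ in
/-- Every element of a finite field is a sum of two squares. -/
lemma exists_sq_add_sq (a : F) : ∃ s t, s ^ 2 + t ^ 2 = a := by
  rcases eq_or_ne (2 : F) 0 with h2 | h2
  · haveI : CharP F 2 := CharTwo.of_one_ne_zero_of_two_eq_zero one_ne_zero h2
    obtain ⟨b, hb⟩ := Finite.surjective_of_injective (frobenius_inj F 2) a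
    exact ⟨b, 0, by rw [zero_pow (by norm_num), add_zero]; exact hb⟩
  · haveI := Fintype.ofFinite F
    have hodd : Fintype.card F % 2 = 1 := FiniteField.odd_card_of_char_ne_two fun h =>
      h2 (by haveI := ringChar.of_eq h; exact CharTwo.two_eq_zero)
    obtain ⟨s, t, h⟩ := FiniteField.exists_root_sum_quadratic
      (f := (Polynomial.X : Polynomial F) ^ 2) (g := (Polynomial.X : Polynomial F) ^ 2 - Polynomial.C a)
      (Polynomial.degree_X_pow 2) (Polynomial.degree_X_pow_sub_C (by norm_num) _) hodd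
    simp only [Polynomial.eval_pow, Polynomial.eval_X, Polynomial.eval_sub, Polynomial.eval_C] at h
    exact ⟨s, t, by linear_combination h⟩

omit hQ in
/-- The normaliser of a self-adjoint quadratic field is maximal. -/
theorem field_maximal (hq : ∃ τ : F, τ ≠ 0 ∧ τ ≠ 1) (hK : IsFieldSubalgebra 2 K)
    (hsa : IsSelfAdjointFor (sympForm 2 F) K) (halt : ∀ k ∈ K, ∀ v : E, sympForm 2 F (k *ᵥ v) v = 0) :
    IsMaximalIn (spGL 2 F) (subalgebraNormalizer K ⊓ spGL 2 F) := by
  obtain ⟨j, p, r, h⟩ := exists_quadGen hK hsa halt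
  exact isMaximalIn_of_key (field_proper h) fun M h1 h2 h3 => field_key h exists_sq_add_sq hq h1 h2 h3

end CfsgLib.Geo.SpFourOdd
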