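import Cfsg.Agent.Geo.SpFourOdd.FiveTools
import Cfsg.Agent.Geo.SpFourOdd.Field

/-!
The stabiliser in `Ω` of a non-degenerate three-space of a five-dimensional orthogonal space is
maximal over every field of odd order at least five.
-/

set_option autoImplicit false
set_option linter.unusedSectionVars false

namespace CfsgLib.Geo.SpFourOdd.Five

open QuadraticMap CfsgLib.Forms CfsgLib.Quad CfsgLib.Geo.OS

/-- A square root in the field with five elements. -/
theorem sq_of_five {F : Type*} [Field F] [Finite F] (h5 : Nat.card F = 5) {z : F} (hz : z ^ 2 = 1) :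
    ∃ y : F, y ^ 2 = z := by
  have h0 : (5 : F) = 0 := by
    haveI := Fintype.ofFinite F
    rw [Nat.card_eq_fintype_card] at h5
    have h := FiniteField.cast_card_eq_zero F
    rw [h5] at h
    simpa using h
  rcases mul_self_eq_one_iff.1 (show z * z = 1 by rw [← pow_two]; exact hz) with rfl | rfl
  · exact ⟨1, one_pow 2⟩
  · exact ⟨2, by linear_combination h0⟩

variable {F V : Type*} [Field F] [AddCommGroup V] [Module F V] [FiniteDimensional F V] [Finite F]
  {Q : QuadraticForm F V} (hQ : (polarBilin Q).Nondegenerate) (h2 : (2 : F) ≠ 0)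
  (hn : Module.finrank F V = 5) (h5 : 5 ≤ Nat.card F)
  {U : Submodule F V} (hU : ND Q U) (hU3 : Module.finrank F U = 3)
  {M : Subgroup (oGroup Q)} (hM : stabO Q U ⊓ commutator (oGroup Q) ≤ M)

include hQ h2 hn h5 hU hU3

theorem finrank_W : Module.finrank F (perpS Q U) = 2 := by
  have h := finrank_perpS hQ U
  omega

include hM

theorem siegelU {e a : V} (he : e ∈ U) (ha : a ∈ U) (hQe : Q e = 0) (hea : polar Q e a = 0) :
    siegel Q e a ∈ M :=
  hM ⟨siegel_mem_stabO hQ hQe hea (Or.inl ⟨he, ha⟩), siegel_mem_commutator hQ (by omega) hQe hea⟩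

theorem famU {e a : V} (he : e ∈ U) (ha : a ∈ U) (hQe : Q e = 0) (hea : polar Q e a = 0) : Fam M e a :=
  fun t => siegelU hQ h2 hn h5 hU hU3 hM he (U.smul_mem t ha) hQe
    (by rw [polar_smul_right, hea, smul_zero])

theorem reflM {d a : V} (hd : d ∈ U ∨ d ∈ perpS Q U) (ha : a ∈ U ∨ a ∈ perpS Q U) (hQd : Q d ≠ 0)
    (h : Q a = Q d) : refl Q d * refl Q a ∈ M :=
  hM ⟨mul_mem (refl_mem_stabO hQ hd) (refl_mem_stabO hQ ha),
    refl_pair_mem_commutator hQ hQd (by rwa [h]) (by rw [h]; exact IsSquare.mul_self _)⟩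

omit hM in
theorem polar_W {e v : V} (he : e ∈ U) (hv : v ∈ perpS Q U) : polar Q e v = 0 := hv e he

/-- Moving one singular line of `U` to another, fixing the orthogonal plane. -/
theorem toward {e e' : V} (he : e ∈ U) (he0 : e ≠ 0) (hQe : Q e = 0) (he' : e' ∈ U) (he'0 : e' ≠ 0)
    (hQe' : Q e' = 0) :
    ∃ k ∈ M, k ∈ stabO Q U ∧ (∀ v ∈ perpS Q U, k.1 v = v) ∧ ∃ t : F, t ≠ 0 ∧ k.1 e' = t • e := by
  obtain ⟨f, c, hf⟩ := exists_frame hQ h2 hU hU3 he he0 hQe
  obtain ⟨a, b, d, e1⟩ := hf.span e' he'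
  by_cases hb : b = 0
  · subst hb
    have hd : d = 0 := by
      rw [e1, zero_smul, add_zero, quad_add, quad_smul, quad_smul, polar_smul_left, polar_smul_right,
        hf.Qe, hf.ec] at hQe'
      simpa [hf.Qc] using hQe'
    subst hd
    rw [zero_smul, zero_smul, add_zero, add_zero] at e1
    exact ⟨1, one_mem _, one_mem _, fun v _ => rfl, a, fun h => he'0 (by rw [e1, h, zero_smul]), e1⟩
  have hπ : polar Q e e' ≠ 0 := by
    rw [e1, polar_add_right, polar_add_right, polar_smul_right, polar_smul_right, polar_smul_right,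
      polar_self, hQe, hf.ec]
    simpa using ⟨hb, hf.ef⟩
  obtain ⟨c', hf'⟩ := exists_frame_pair hQ h2 hU hU3 he he' hQe hQe' hπ
  set α := -Q c' / polar Q e e'
  have hα : α ≠ 0 := div_ne_zero (neg_ne_zero.2 hf'.Qc) hπ
  set g := e + α • e' + c' with hg
  have hgU : g ∈ U := U.add_mem (U.add_mem he (U.smul_mem _ he')) hf'.hc
  have hQg : Q g = 0 := by
    rw [hg, quad_add, quad_add, quad_smul, hQe, hQe', polar_add_left, polar_smul_left, polar_smul_right,
      hf'.ec, hf'.fc, smul_eq_mul, smul_zero]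
    simp only [α]
    field_simp
    ring
  have hge : polar Q g e = α * polar Q e e' := by
    rw [hg, polar_add_left, polar_add_left, polar_smul_left, polar_self, hQe, polar_comm (⇑Q) e' e,
      polar_comm (⇑Q) c' e, hf'.ec, smul_eq_mul, smul_zero]
    ring
  have hge' : polar Q g e' = polar Q e e' := by
    rw [hg, polar_add_left, polar_add_left, polar_smul_left, polar_self, hQe', polar_comm (⇑Q) c' e',
      hf'.fc, smul_zero, smul_zero, add_zero, add_zero]
  set ee := (α * polar Q e e')⁻¹ • e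
  set ee' := (polar Q e e')⁻¹ • e'
  obtain ⟨hga, hmv⟩ := siegel_move hQg (f := ee') (h := ee) (by rw [quad_smul, hQe', mul_zero])
    (by rw [quad_smul, hQe, mul_zero])
    (by rw [polar_smul_right, hge', smul_eq_mul, inv_mul_cancel₀ hπ])
    (by rw [polar_smul_right, hge, smul_eq_mul, inv_mul_cancel₀ (mul_ne_zero hα hπ)])
  have haU : ee - ee' ∈ U := U.sub_mem (U.smul_mem _ he) (U.smul_mem _ he')
  refine ⟨siegel Q g (ee - ee'), siegelU hQ h2 hn h5 hU hU3 hM hgU haU hQg hga,
    siegel_mem_stabO hQ hQg hga (Or.inl ⟨hgU, haU⟩), fun v hv => ?_, α⁻¹, inv_ne_zero hα, ?_⟩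
  · exact siegel_fix hQg hga (by rw [polar_comm]; exact hv g hgU) (by rw [polar_comm]; exact hv _ haU)
  · have h := congrArg (fun v => polar Q e e' • v) hmv
    simp only [← map_smul] at h
    rw [show polar Q e e' • ee' = e' by rw [smul_smul, mul_inv_cancel₀ hπ, one_smul]] at h
    rw [h, smul_smul]
    congr 1
    field_simp

/-- One mixed Siegel transformation gives a whole line of them. -/
theorem fam_of_mixed {e : V} (he : e ∈ U) (he0 : e ≠ 0) (hQe : Q e = 0) {v : V} (hv : v ∈ perpS Q U)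
    (h : siegel Q e v ∈ M) : Fam M e v := by
  obtain ⟨f, c, hf⟩ := exists_frame hQ h2 hU hU3 he he0 hQe
  have hev : polar Q e v = 0 := hv e he
  have hone : ∀ s : F, siegel Q e (s ^ 2 • v) ∈ M := fun s => by
    rcases eq_or_ne s 0 with rfl | hs
    · rw [zero_pow (by norm_num), zero_smul, siegel_zero hQe]; exact one_mem _
    have hT : torus Q e f c s ∈ M := torus_mem (famU hQ h2 hn h5 hU hU3 hM hf.hf hf.hc hf.Qf hf.fc)
      (famU hQ h2 hn h5 hU hU3 hM hf.he hf.hc hf.Qe hf.ec) s
    have h1 := siegel_conj_mem hT hQe hev h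
    rw [torus_apply hQe hf.Qf hf.ef hf.ec hf.fc hf.Qc hs, torus_apply hQe hf.Qf hf.ef hf.ec hf.fc hf.Qc hs,
      polar_self, hQe, polar_comm (⇑Q) v f, hv f hf.hf, polar_comm (⇑Q) v e, hev] at h1
    simp only [smul_zero, mul_zero, zero_div, zero_smul, add_zero] at h1
    rw [mul_div_assoc, div_self hf.ef, mul_one, show e + (s ^ 2 - 1) • e = s ^ 2 • e by module,
      siegel_smul hQe hev] at h1
    exact h1
  intro t
  obtain ⟨s1, s2, hs⟩ := exists_sq_add_sq t
  rw [← hs, add_smul, ← siegel_mul hQe (by rw [polar_smul_right, hev, smul_zero])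
    (by rw [polar_smul_right, hev, smul_zero])]
  exact mul_mem (hone s1) (hone s2)

/-- One mixed Siegel transformation gives all of `Ω`. -/
theorem finish {e : V} (he : e ∈ U) (he0 : e ≠ 0) (hQe : Q e = 0) {v : V} (hv : v ∈ perpS Q U)
    (hv0 : v ≠ 0) (h : siegel Q e v ∈ M) : commutator (oGroup Q) ≤ M := by
  have hW : ND Q (perpS Q U) := ND.perp hQ hU
  have hW2 := finrank_W hQ h2 hn h5 hU hU3
  -- a second direction
  obtain ⟨w1, hw1, hw1v, hpw⟩ : ∃ w1 ∈ perpS Q U, w1 ∉ Submodule.span F {v} ∧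
      (Q v = 0 → polar Q v w1 ≠ 0) := by
    by_cases hQv : Q v = 0
    · obtain ⟨w1, hw1, h1⟩ := ND.partner hW hv hv0
      refine ⟨w1, hw1, fun hc => ?_, fun _ => h1⟩
      obtain ⟨t, rfl⟩ := Submodule.mem_span_singleton.1 hc
      exact h1 (by rw [polar_smul_right, polar_self, hQv, smul_zero, smul_zero])
    · obtain ⟨w1, hw1, h1⟩ : ∃ w1 ∈ perpS Q U, w1 ∉ Submodule.span F {v} := by
        by_contra hc
        push Not at hc
        have h1 := Submodule.finrank_mono (show perpS Q U ≤ Submodule.span F {v} from hc)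
        rw [finrank_span_singleton hv0] at h1
        omega
      exact ⟨w1, hw1, h1, fun hc => absurd hc hQv⟩
  obtain ⟨t, ht0, hQd, hpd⟩ : ∃ t : F, t ≠ 0 ∧ Q (v + t • w1) ≠ 0 ∧ polar Q v (v + t • w1) ≠ 0 := by
    by_contra hcon
    push Not at hcon
    have hQd : ∀ t : F, Q (v + t • w1) = Q v + t * polar Q v w1 + t * t * Q w1 := fun t => by
      rw [quad_add, quad_smul, polar_smul_right, smul_eq_mul]; ring
    have hpd : ∀ t : F, polar Q v (v + t • w1) = 2 * Q v + t * polar Q v w1 := fun t => by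
      rw [polar_add_right, polar_smul_right, polar_self, nsmul_eq_mul, Nat.cast_ofNat, smul_eq_mul]
    classical
    open Polynomial in
    set p1 : F[X] := C (polar Q v w1) * X + C (2 * Q v) with hp1
    open Polynomial in
    set p2 : F[X] := C (Q w1) * X ^ 2 + C (polar Q v w1) * X + C (Q v) with hp2
    open Polynomial in
    have hp10 : p1 ≠ 0 := fun h0 => by
      by_cases hQv : Q v = 0
      · have := congrArg (fun p : F[X] => p.coeff 1) h0
        simp [hp1, hpw hQv] at this
      · have := congrArg (fun p : F[X] => p.coeff 0) h0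
        simp [hp1, hQv, h2] at this
    open Polynomial in
    have hp20 : p2 ≠ 0 := fun h0 => by
      by_cases hQv : Q v = 0
      · have := congrArg (fun p : F[X] => p.coeff 1) h0
        simp [hp2, hpw hQv, Polynomial.coeff_X_pow] at this
      · have := congrArg (fun p : F[X] => p.coeff 0) h0
        simp [hp2, hQv, Polynomial.coeff_X_pow] at this
    open Polynomial in
    have hdeg : (p1 * p2 * X).natDegree ≤ 4 := by
      refine Polynomial.natDegree_mul_le.trans ?_
      have a1 : p1.natDegree ≤ 1 := Polynomial.natDegree_linear_le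
      have a2 : p2.natDegree ≤ 2 := Polynomial.natDegree_quadratic_le
      have a3 := Polynomial.natDegree_mul_le (p := p1) (q := p2)
      have a4 := Polynomial.natDegree_X_le (R := F)
      omega
    haveI := Fintype.ofFinite F
    refine mul_ne_zero (mul_ne_zero hp10 hp20) Polynomial.X_ne_zero
      (Polynomial.eq_zero_of_natDegree_lt_card_of_eval_eq_zero' _ Finset.univ (fun t _ => ?_) ?_)
    · rcases eq_or_ne t 0 with rfl | ht
      · simp
      by_cases hq : Q (v + t • w1) = 0
      · rw [hQd] at hq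
        simp only [hp1, hp2, Polynomial.eval_mul, Polynomial.eval_add, Polynomial.eval_C, Polynomial.eval_X,
          Polynomial.eval_pow]
        rw [show Q w1 * t ^ 2 + polar Q v w1 * t + Q v = 0 by linear_combination hq, mul_zero, zero_mul]
      · have hp := hcon t ht hq
        rw [hpd] at hp
        simp only [hp1, hp2, Polynomial.eval_mul, Polynomial.eval_add, Polynomial.eval_C, Polynomial.eval_X,
          Polynomial.eval_pow]
        rw [show polar Q v w1 * t + 2 * Q v = 0 by linear_combination hp, zero_mul, zero_mul]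
    · rw [Finset.card_univ, ← Nat.card_eq_fintype_card]; omega
  set d := v + t • w1 with hd
  have hdW : d ∈ perpS Q U := Submodule.add_mem _ hv (Submodule.smul_mem _ _ hw1)
  obtain ⟨a, ha, hQa⟩ := NDLow.exists_value hQ h2 hU (by omega) (Q d)
  have hgM := reflM hQ h2 hn h5 hU hU3 hM (Or.inr hdW) (Or.inl ha) hQd hQa
  set g := refl Q d * refl Q a with hg
  set e' := (refl Q a).1 e with he'
  set v' := (refl Q d).1 v with hv'
  have he'U : e' ∈ U := by rw [he', refl_apply]; exact U.add_mem he (U.smul_mem _ ha)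
  have hv'W : v' ∈ perpS Q U := by
    rw [hv', refl_apply]; exact Submodule.add_mem _ hv (Submodule.smul_mem _ _ hdW)
  have hge : g.1 e = e' := by
    change (refl Q d).1 e' = e'
    exact refl_fix (hdW e' he'U)
  have hgv : g.1 v = v' := by
    change (refl Q d).1 ((refl Q a).1 v) = v'
    rw [refl_fix (show polar Q v a = 0 by rw [polar_comm]; exact hv a ha)]
  have hQe' : Q e' = 0 := ((refl Q a).2 e).trans hQe
  have he'0 : e' ≠ 0 := fun h0 => he0 ((refl Q a).1.map_eq_zero_iff.1 h0)
  have hF := fam_of_mixed hQ h2 hn h5 hU hU3 hM he he0 hQe hv h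
  have h1 := hF.conj hgM hQe (hv e he)
  rw [hge, hgv] at h1
  obtain ⟨k, hk, -, hkW, s, hs, hke⟩ := toward hQ h2 hn h5 hU hU3 hM he he0 hQe he'U he'0 hQe'
  have h3 := h1.conj hk hQe' (hv'W e' he'U)
  rw [hke, hkW v' hv'W] at h3
  have hev' : polar Q e v' = 0 := hv'W e he
  have hFv' : Fam M e v' := fun r => by
    have := h3 (r / s)
    rwa [siegel_smul hQe (by rw [polar_smul_right, hev', smul_zero]), smul_smul, mul_div_cancel₀ r hs]
      at this
  -- all of the plane
  have hv'n : v' ∉ Submodule.span F {v} := by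
    intro hc
    rw [hv', refl_apply] at hc
    have h4 := (Submodule.span F {v}).sub_mem hc (Submodule.mem_span_singleton_self v)
    rw [add_sub_cancel_left, Submodule.smul_mem_iff _ (mul_ne_zero (neg_ne_zero.2 (inv_ne_zero hQd))
      (by exact hpd))] at h4
    have h6 := (Submodule.span F {v}).sub_mem h4 (Submodule.mem_span_singleton_self v)
    rw [hd, add_sub_cancel_left, Submodule.smul_mem_iff _ ht0] at h6
    exact hw1v h6
  have hall : ∀ q ∈ perpS Q U, siegel Q e q ∈ M := by
    have hsup : Submodule.span F {v} ⊔ Submodule.span F {v'} = perpS Q U := by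
      refine Submodule.eq_of_le_of_finrank_le (sup_le ((Submodule.span_singleton_le_iff_mem _ _).2 hv)
        ((Submodule.span_singleton_le_iff_mem _ _).2 hv'W)) ?_
      have hlt : Submodule.span F {v} < Submodule.span F {v} ⊔ Submodule.span F {v'} :=
        left_lt_sup.2 fun h => hv'n (h (Submodule.mem_span_singleton_self v'))
      have := Submodule.finrank_lt_finrank_of_lt hlt
      rw [finrank_span_singleton hv0] at this
      omega
    intro q hq
    rw [← hsup] at hq
    obtain ⟨x1, hx1, x2, hx2, rfl⟩ := Submodule.mem_sup.1 hq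
    obtain ⟨r1, rfl⟩ := Submodule.mem_span_singleton.1 hx1
    obtain ⟨r2, rfl⟩ := Submodule.mem_span_singleton.1 hx2
    exact ((hF.smul r1).add hQe (by rw [polar_smul_right, hv e he, smul_zero])
      (by rw [polar_smul_right, hev', smul_zero]) (hFv'.smul r2)).one
  have hFe : Full M e := by
    intro a' ha'
    obtain ⟨p, hp, q, hq, rfl⟩ := ND.decomp hQ hU a'
    have heq : polar Q e q = 0 := hq e he
    have hep : polar Q e p = 0 := by rwa [polar_add_right, heq, add_zero] at ha'
    rw [← siegel_mul hQe hep heq]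
    exact mul_mem (siegelU hQ h2 hn h5 hU hU3 hM he hp hQe hep) (hall q hq)
  obtain ⟨f, c, hf⟩ := exists_frame hQ h2 hU hU3 he he0 hQe
  have hf0 : f ≠ 0 := fun h0 => hf.ef (by rw [h0, polar_zero_right])
  obtain ⟨k, hk, -, -, r, hr, hke⟩ := toward hQ h2 hn h5 hU hU3 hM hf.hf hf0 hf.Qf he he0 hQe
  have hFf := Full.conj hk hQe hFe
  rw [hke] at hFf
  exact commutator_le_of_two hQ (by omega) hQe hf.Qf hf.ef hFe (Full.of_smul hf.Qf hr hFf)

/-- A long root element mixing the two sides gives all of `Ω`. -/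
theorem long {w u : V} (hw : w ∈ perpS Q U) (hw0 : w ≠ 0) (hu : u ∈ U) (hx : Q (w + u) = 0) {c : V}
    (hc : c ∈ U) (hc0 : c ≠ 0) (hQc : Q c = 0) (hcu : polar Q c u = 0)
    (h : siegel Q (w + u) c ∈ M) : commutator (oGroup Q) ≤ M := by
  have hcw : polar Q c w = 0 := hw c hc
  rw [siegel_swap hx hQc (by rw [polar_comm, polar_add_right, hcw, hcu, add_zero]), neg_add,
    ← siegel_mul hQc (by rw [polar_neg_right, hcw, neg_zero]) (by rw [polar_neg_right, hcu, neg_zero])] at h
  exact finish hQ h2 hn h5 hU hU3 hM hc hc0 hQc (Submodule.neg_mem _ hw) (neg_ne_zero.2 hw0)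
    ((mul_mem_cancel_right (siegelU hQ h2 hn h5 hU hU3 hM hc (U.neg_mem hu) hQc
      (by rw [polar_neg_right, hcu, neg_zero]))).1 h)

variable {e0 f0 c0 : V} (hf0 : Frame Q U e0 f0 c0)
include hf0

/-- The values on the orthogonal of a singular vector of `U`. -/
theorem class_perp {e : V} (he : e ∈ U) (he0 : e ≠ 0) (hQe : Q e = 0) {v : V} (hv : v ∈ U)
    (hev : polar Q e v = 0) : ∃ σ : F, Q v = σ ^ 2 * Q c0 := by
  have he00 : e0 ≠ 0 := fun h0 => hf0.ef (by rw [h0, polar_zero_left])
  obtain ⟨k, -, hkU, -, t, ht, hke⟩ := toward hQ h2 hn h5 hU hU3 hM hf0.he he00 hf0.Qe he he0 hQe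
  obtain ⟨a, b, d, hkv⟩ := hf0.span _ ((hkU v).2 hv)
  have h1 : polar Q e0 (k.1 v) = 0 := by
    have h := polar_oGroup k e v
    rw [hke, polar_smul_left, hev, smul_eq_mul, mul_eq_zero] at h
    exact h.resolve_left ht
  rw [hkv, polar_add_right, polar_add_right, polar_smul_right, polar_smul_right, polar_smul_right,
    polar_self, hf0.Qe, hf0.ec] at h1
  have hb : b = 0 := by simpa [hf0.ef] using h1
  refine ⟨d, ?_⟩
  rw [← k.2 v, hkv, hb, zero_smul, add_zero, quad_add, quad_smul, quad_smul, hf0.Qe, polar_smul_left,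
    polar_smul_right, hf0.ec]
  simp [pow_two]

/-- A mixed family with a hyperbolic complement in `U` gives all of `Ω`. -/
theorem finishGood {w u : V} (hw : w ∈ perpS Q U) (hw0 : w ≠ 0) (hu : u ∈ U) (hu0 : u ≠ 0)
    (hx : Q (w + u) = 0) {c : V} (hc : c ∈ U) (hcu : polar Q c u = 0) (hQc : Q c = Q c0)
    (h : Fam M (w + u) c) : commutator (oGroup Q) ≤ M := by
  obtain ⟨e, f, hf⟩ : ∃ e f, Frame Q U e f c := by
    have key : ∀ d ∈ U, Q d = Q c0 → Q (d - c0) ≠ 0 → ∃ e f, Frame Q U e f d := by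
      intro d hd hQd hne
      have hm : d - c0 ∈ U := U.sub_mem hd hf0.hc
      have hmap : (refl Q (d - c0)).1 c0 = d := refl_map hQd.symm hne
      have hmem : ∀ v ∈ U, (refl Q (d - c0)).1 v ∈ U := fun v hv => by
        rw [refl_apply]; exact U.add_mem hv (U.smul_mem _ hm)
      refine ⟨_, _, hmem _ hf0.he, hmem _ hf0.hf, hd, ((refl Q (d - c0)).2 _).trans hf0.Qe,
        ((refl Q (d - c0)).2 _).trans hf0.Qf, by rw [polar_oGroup]; exact hf0.ef,
        by nth_rewrite 2 [← hmap]; rw [polar_oGroup]; exact hf0.ec,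
        by nth_rewrite 2 [← hmap]; rw [polar_oGroup]; exact hf0.fc, hQd ▸ hf0.Qc, fun v hv => ?_⟩
      obtain ⟨a, b, r, e1⟩ := hf0.span _ (hmem v hv)
      refine ⟨a, b, r, ?_⟩
      have h1 := congrArg (refl Q (d - c0)).1 e1
      rw [map_add, map_add, map_smul, map_smul, map_smul, hmap] at h1
      rw [← h1]
      change v = ((refl Q (d - c0)) * (refl Q (d - c0))).1 v
      rw [refl_mul_self]
      rfl
    by_cases h1 : Q (c - c0) = 0
    swap
    · exact key c hc hQc h1
    have h4 : Q (-c - c0) ≠ 0 := fun h0 => by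
      refine mul_ne_zero (mul_ne_zero h2 h2) hf0.Qc ?_
      rw [sub_eq_add_neg, quad_add, QuadraticMap.map_neg, polar_neg_right] at h1
      rw [sub_eq_add_neg, quad_add, QuadraticMap.map_neg, QuadraticMap.map_neg, polar_neg_right,
        polar_neg_left] at h0
      linear_combination h1 + h0 - 2 * hQc
    obtain ⟨e, f, hf⟩ := key (-c) (U.neg_mem hc) (by rw [QuadraticMap.map_neg, hQc]) h4
    refine ⟨e, f, hf.he, hf.hf, hc, hf.Qe, hf.Qf, hf.ef, ?_, ?_, hQc ▸ hf0.Qc, fun v hv => ?_⟩
    · have := hf.ec; rwa [polar_neg_right, neg_eq_zero] at this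
    · have := hf.fc; rwa [polar_neg_right, neg_eq_zero] at this
    · obtain ⟨a, b, r, e1⟩ := hf.span v hv
      exact ⟨a, b, -r, by rw [e1]; module⟩
  obtain ⟨e, f, hf, heu⟩ : ∃ e f, Frame Q U e f c ∧ polar Q e u ≠ 0 := by
    by_cases h1 : polar Q e u = 0
    swap
    · exact ⟨e, f, hf, h1⟩
    refine ⟨f, e, hf.symm, fun h3 => hu0 (ND.eq_zero hU hu fun v hv => ?_)⟩
    obtain ⟨a, b, r, rfl⟩ := hf.span v hv
    simp [polar_add_left, polar_smul_left, h1, h3, hcu]
  have hex : polar Q e (w + u) = polar Q e u := by rw [polar_add_right, hw e hf.he, zero_add]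
  have hπ : polar Q e (w + u) ≠ 0 := by rwa [hex]
  set f' := (polar Q e (w + u) / polar Q e f) • f
  have hf' : f' ∈ U := U.smul_mem _ hf.hf
  have hef' : polar Q e f' = polar Q e (w + u) := by
    rw [polar_smul_right, smul_eq_mul, div_mul_cancel₀ _ hf.ef]
  have hQf' : Q f' = 0 := by rw [quad_smul, hf.Qf, mul_zero]
  have hfc' : polar Q f' c = 0 := by rw [polar_smul_left, hf.fc, smul_zero]
  have hxc : polar Q (w + u) c = 0 := by
    rw [polar_add_left, polar_comm (⇑Q) w c, hw c hc, polar_comm (⇑Q) u c, hcu, add_zero]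
  obtain ⟨τ, hτ⟩ := exists_avoid h5 [0, 1, -1] (by simp)
  simp only [List.mem_cons, List.not_mem_nil, or_false, not_or] at hτ
  have hFe := famU hQ h2 hn h5 hU hU3 hM hf.he hc hf.Qe hf.ec
  have hm := mul_mem (torus_mem h hFe τ)
    (torus_mem (famU hQ h2 hn h5 hU hU3 hM hf' hc hQf' hfc') hFe τ⁻¹)
  rw [torus_ratio hf.Qe hQf' hx hπ hef' hf.ec hfc' hxc (hQc ▸ hf0.Qc) hτ.1] at hm
  set r := (1 - τ ^ 2) / polar Q e (w + u)
  have hr : r ≠ 0 := div_ne_zero (fun h0 => by
    rcases mul_self_eq_one_iff.1 (show τ * τ = 1 by linear_combination -h0) with h1 | h1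
    exacts [hτ.2.1 h1, hτ.2.2 h1]) hπ
  have hew : polar Q e (r • w) = 0 := by rw [polar_smul_right, hw e hf.he, smul_zero]
  have heu' : polar Q e (r • (u - f')) = 0 := by
    rw [polar_smul_right, polar_sub_right, hef', hex, sub_self, smul_zero]
  rw [show r • (w + u - f') = r • w + r • (u - f') by module, ← siegel_mul hf.Qe hew heu'] at hm
  exact finish hQ h2 hn h5 hU hU3 hM hf.he (fun h0 => hπ (by rw [h0, polar_zero_left])) hf.Qe
    (Submodule.smul_mem _ r hw) (smul_ne_zero hr hw0)
    ((mul_mem_cancel_right (siegelU hQ h2 hn h5 hU hU3 hM hf.he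
      (U.smul_mem r (U.sub_mem hu hf')) hf.Qe heu')).1 hm)

/-- The case of singular components. -/
theorem sing {w u : V} (hw : w ∈ perpS Q U) (hw0 : w ≠ 0) (hu : u ∈ U) (hQw : Q w = 0) (hQu : Q u = 0)
    {b : V} (hxb : polar Q (w + u) b = 0) (hQb : Q b ≠ 0) (h : Fam M (w + u) b) :
    commutator (oGroup Q) ≤ M := by
  have hx : Q (w + u) = 0 := by
    rw [quad_add, hQw, hQu, polar_comm (⇑Q) w u, hw u hu, add_zero, add_zero]
  -- the two moves by Siegel transformations of `U` fixing the vector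
  have hmove : ∀ e k, e ∈ U → k ∈ U → Q e = 0 → polar Q e k = 0 → polar Q (w + u) e = 0 →
      polar Q (w + u) k = 0 → Fam M (w + u) ((siegel Q e k).1 b) ∧
      polar Q (w + u) ((siegel Q e k).1 b) = 0 := by
    intro e k he hk hQe hek hxe hxk
    have hfix : (siegel Q e k).1 (w + u) = w + u := siegel_fix hQe hek hxe hxk
    have h1 := h.conj (siegelU hQ h2 hn h5 hU hU3 hM he hk hQe hek) hx hxb
    rw [hfix] at h1
    refine ⟨h1, ?_⟩
    nth_rewrite 1 [← hfix]
    rw [polar_oGroup, hxb]
  have hgo : ∀ e, e ∈ U → e ≠ 0 → Q e = 0 → polar Q (w + u) e = 0 → Fam M (w + u) e →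
      commutator (oGroup Q) ≤ M := by
    intro e he he0 hQe hxe hF
    refine long hQ h2 hn h5 hU hU3 hM hw hw0 hu hx he he0 hQe ?_ hF.one
    rwa [polar_add_left, polar_comm (⇑Q) w e, hw e he, zero_add, polar_comm] at hxe
  have hpair : ∀ e k, e ∈ U → e ≠ 0 → k ∈ U → Q e = 0 → Q k ≠ 0 → polar Q e k = 0 →
      polar Q (w + u) e = 0 → polar Q (w + u) k = 0 → polar Q b e ≠ 0 → commutator (oGroup Q) ≤ M := by
    intro e k he he0 hk hQe hQk hek hxe hxk hbe
    obtain ⟨m1, p1⟩ := hmove e k he hk hQe hek hxe hxk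
    obtain ⟨m2, p2⟩ := hmove e (-k) he (U.neg_mem hk) hQe (by rw [polar_neg_right, hek, neg_zero]) hxe
      (by rw [polar_neg_right, hxk, neg_zero])
    have h3 := ((m1.sub hx p1 hxb h).add hx (by rw [polar_sub_right, p1, hxb, sub_self])
      (by rw [polar_sub_right, p2, hxb, sub_self]) (m2.sub hx p2 hxb h))
    refine hgo e he he0 hQe hxe ?_
    have h4 := h3.smul (-(2 * (Q k * polar Q b e)))⁻¹
    convert h4 using 1
    rw [siegel_apply hQe hek, siegel_apply hQe (by rw [polar_neg_right, hek, neg_zero]), polar_neg_right,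
      QuadraticMap.map_neg]
    match_scalars <;> field_simp <;> ring
  have hW2 := finrank_W hQ h2 hn h5 hU hU3
  obtain ⟨l, hl, q, hq, rfl⟩ := ND.decomp hQ hU b
  rcases eq_or_ne u 0 with rfl | hu0
  · by_cases hl0 : l = 0
    · exfalso
      subst hl0
      rw [zero_add, add_zero] at hxb
      obtain ⟨t, rfl⟩ := singular_perp_two hQ (ND.perp hQ hU) hW2 hw hw0 hQw hq hxb
      exact hQb (by rw [zero_add, quad_smul, hQw, mul_zero])
    obtain ⟨e, he, hQe, hle⟩ := ND.exists_singular_partner hQ hU (by omega) hl hl0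
    have he0 : e ≠ 0 := fun h0 => hle (by rw [h0, polar_zero_right])
    obtain ⟨f, c, hf⟩ := exists_frame hQ h2 hU hU3 he he0 hQe
    have hwU : ∀ z ∈ U, polar Q (w + 0) z = 0 := fun z hz => by
      rw [add_zero, polar_comm]; exact hw z hz
    refine hpair e c he he0 hf.hc hQe hf.Qc hf.ec (hwU e he) (hwU c hf.hc) ?_
    rw [polar_add_left, polar_comm (⇑Q) q e, hq e he, add_zero]
    exact hle
  obtain ⟨f, c, hf⟩ := exists_frame hQ h2 hU hU3 hu hu0 hQu
  have hxu : polar Q (w + u) u = 0 := by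
    rw [polar_add_left, polar_comm (⇑Q) w u, hw u hu, polar_self, hQu, smul_zero, add_zero]
  have hxc : polar Q (w + u) c = 0 := by
    rw [polar_add_left, polar_comm (⇑Q) w c, hw c hf.hc, hf.ec, add_zero]
  by_cases hbu : polar Q (l + q) u = 0
  swap
  · exact hpair u c hu hu0 hf.hc hQu hf.Qc hf.ec hxu hxc hbu
  by_cases hbc : polar Q (l + q) c = 0
  swap
  · obtain ⟨m1, p1⟩ := hmove u c hu hf.hc hQu hf.ec hxu hxc
    refine hgo u hu hu0 hQu hxu ?_
    have h4 := (m1.sub hx p1 hxb h).smul (-(polar Q (l + q) c))⁻¹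
    convert h4 using 1
    rw [siegel_apply hQu hf.ec, hbu]
    match_scalars <;> field_simp <;> ring
  exfalso
  obtain ⟨a, r, s, rfl⟩ := hf.span l hl
  have hfu : polar Q f u ≠ 0 := by rw [polar_comm]; exact hf.ef
  have hqu : polar Q q u = 0 := by rw [polar_comm]; exact hq u hu
  have hqc : polar Q q c = 0 := by rw [polar_comm]; exact hq c hf.hc
  simp [polar_add_left, polar_smul_left, polar_self, hQu, hqu, hqc, polar_comm (⇑Q) c u, hf.ec, hf.fc,
    hfu] at hbu hbc
  subst hbu
  have hs : s = 0 := hbc.resolve_right fun h0 => hf.Qc (h0.resolve_left h2)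
  subst hs
  have hwq : polar Q w q = 0 := by
    rw [polar_add_left, polar_add_right, polar_add_right] at hxb
    simpa [polar_add_right, polar_smul_right, polar_self, hQu, hw u hu, polar_comm (⇑Q) w u, hq u hu]
      using hxb
  obtain ⟨t, rfl⟩ := singular_perp_two hQ (ND.perp hQ hU) hW2 hw hw0 hQw hq hwq
  refine hQb ?_
  rw [zero_smul, zero_smul, add_zero, add_zero, quad_add, quad_smul, quad_smul, hQu, hQw, polar_smul_left,
    polar_smul_right, hw u hu]
  simp

/-- Splitting off a multiple of the centre. -/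
theorem split {w u : V} (hw : w ∈ perpS Q U) (hu : u ∈ U) (hx : Q (w + u) = 0) (hQu : Q u ≠ 0) {q l : V}
    (hq : q ∈ perpS Q U) (hl : l ∈ U) (hxb : polar Q (w + u) (q + l) = 0) (h : Fam M (w + u) (q + l)) :
    ∃ η : F, q - η • w ∈ perpS Q U ∧ l - η • u ∈ U ∧ polar Q w (q - η • w) = 0 ∧
      polar Q u (l - η • u) = 0 ∧ Q (q - η • w + (l - η • u)) = Q (q + l) ∧
      Fam M (w + u) (q - η • w + (l - η • u)) := by
  have hQwu : Q w + Q u = 0 := by
    rwa [quad_add, polar_comm (⇑Q) w u, hw u hu, add_zero] at hx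
  have hQw : Q w ≠ 0 := fun h0 => hQu (by rwa [h0, zero_add] at hQwu)
  set η := polar Q w q / (2 * Q w) with hη
  have hwl : polar Q w l = 0 := by rw [polar_comm]; exact hw l hl
  have huq : polar Q u q = 0 := hq u hu
  have hwq : polar Q w q + polar Q u l = 0 := by
    simpa [polar_add_left, polar_add_right, hwl, huq] using hxb
  have hsum : q - η • w + (l - η • u) = q + l + (-η) • (w + u) := by module
  refine ⟨η, Submodule.sub_mem _ hq (Submodule.smul_mem _ _ hw), U.sub_mem hl (U.smul_mem _ hu), ?_, ?_,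
    ?_, ?_⟩
  · rw [polar_sub_right, polar_smul_right, polar_self, nsmul_eq_mul, Nat.cast_ofNat, smul_eq_mul, hη,
      div_mul_cancel₀ _ (mul_ne_zero h2 hQw), sub_self]
  · rw [polar_sub_right, polar_smul_right, polar_self, nsmul_eq_mul, Nat.cast_ofNat, smul_eq_mul,
      show Q u = -Q w by linear_combination hQwu, hη]
    field_simp
    linear_combination hwq
  · rw [hsum, quad_add, quad_smul, polar_smul_right, hx, polar_comm (⇑Q) (q + l) (w + u), hxb]
    simp
  · rw [hsum]; exact h.shift hx hxb _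

/-- A family with a component in `U`. -/
theorem caseL {w u q l : V} (hw : w ∈ perpS Q U) (hu : u ∈ U) (hq : q ∈ perpS Q U) (hl : l ∈ U)
    (hx : Q (w + u) = 0) (hQu : Q u ≠ 0) (hwq : polar Q w q = 0) (hul : polar Q u l = 0) (hl0 : l ≠ 0)
    (hgood : q = 0 → Q l = Q c0) (h : Fam M (w + u) (q + l)) :
    commutator (oGroup Q) ≤ M ∨ (Nat.card F = 5 ∧ Fam M (w + u) q ∧ (Q q * Q c0) ^ 2 = -1 ∧
      (Q w / Q c0) ^ 2 = 1) := by
  have hQwu : Q w + Q u = 0 := by
    rwa [quad_add, polar_comm (⇑Q) w u, hw u hu, add_zero] at hx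
  have hQw : Q w ≠ 0 := fun h0 => hQu (by rwa [h0, zero_add] at hQwu)
  have hw0 : w ≠ 0 := fun h0 => hQw (by rw [h0, QuadraticMap.map_zero])
  have hu0 : u ≠ 0 := fun h0 => hQu (by rw [h0, QuadraticMap.map_zero])
  have hxU : ∀ z ∈ U, polar Q u z = 0 → polar Q (w + u) z = 0 := fun z hz huz => by
    rw [polar_add_left, polar_comm (⇑Q) w z, hw z hz, huz, add_zero]
  have hxq : polar Q (w + u) q = 0 := by rw [polar_add_left, hwq, hq u hu, add_zero]
  have hxl := hxU l hl hul
  by_cases hq0 : q = 0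
  · subst hq0
    rw [zero_add] at h
    exact Or.inl (finishGood hQ h2 hn h5 hU hU3 hM hf0 hw hw0 hu hu0 hx hl
      (by rw [polar_comm]; exact hul) (hgood rfl) h)
  have hQq : Q q ≠ 0 := fun h0 => hq0 (by
    have hW2 := finrank_W hQ h2 hn h5 hU hU3
    obtain ⟨t, ht⟩ := singular_perp_two hQ (ND.perp hQ hU) hW2 hq hq0 h0 hw (by rw [polar_comm]; exact hwq)
    exact absurd (by rw [ht, quad_smul, h0, mul_zero]) hQw)
  have hproj : ∀ a ∈ U, polar Q u a = 0 → Q a = Q q →
      Fam M (w + u) ((2 : F) • l - (polar Q l a / Q a) • a) := by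
    intro a ha hua hQa
    have hg := reflM hQ h2 hn h5 hU hU3 hM (Or.inr hq) (Or.inl ha) hQq hQa
    have hxb : polar Q (w + u) (q + l) = 0 := by rw [polar_add_right, hxq, hxl, add_zero]
    have hRa : (refl Q a).1 l ∈ U := by rw [refl_apply]; exact U.add_mem hl (U.smul_mem _ ha)
    have hfix : (refl Q q * refl Q a).1 (w + u) = w + u := by
      change (refl Q q).1 ((refl Q a).1 (w + u)) = w + u
      rw [refl_fix (hxU a ha hua), refl_fix hxq]
    have himg : (refl Q q * refl Q a).1 (q + l) = -q + (refl Q a).1 l := by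
      change (refl Q q).1 ((refl Q a).1 (q + l)) = _
      rw [map_add, refl_fix (show polar Q q a = 0 by rw [polar_comm]; exact hq a ha), map_add,
        refl_self hQq, refl_fix (hq _ hRa)]
    have h1 := h.conj hg hx hxb
    rw [hfix, himg] at h1
    have hxR : polar Q (w + u) ((refl Q a).1 l) = 0 := by
      rw [refl_apply, polar_add_right, polar_smul_right, hxl, hxU a ha hua, smul_zero, add_zero]
    have h3 := h.add hx hxb (by rw [polar_add_right, polar_neg_right, hxq, hxR, neg_zero, add_zero]) h1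
    convert h3 using 1
    rw [refl_apply]
    module
  -- the plane orthogonal to `u` inside `U`
  set L : Submodule F V := U ⊓ perpS Q (Submodule.span F {u}) with hLdef
  have hLu : ∀ z ∈ L, polar Q u z = 0 := fun z hz => hz.2 u (Submodule.mem_span_singleton_self u)
  have hLmem : ∀ z ∈ U, polar Q u z = 0 → z ∈ L := fun z hz huz => ⟨hz, fun y hy => by
    obtain ⟨r, rfl⟩ := Submodule.mem_span_singleton.1 hy
    rw [polar_smul_left, huz, smul_zero]⟩
  have huu : polar Q u u ≠ 0 := by
    rw [polar_self, nsmul_eq_mul, Nat.cast_ofNat]; exact mul_ne_zero h2 hQu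
  have hL : ND Q L := by
    refine (Submodule.eq_bot_iff _).2 fun z hz => ND.eq_zero hU hz.1.1 fun y hy => ?_
    have h1 := hz.2 (y - (polar Q u y / polar Q u u) • u) (hLmem _ (U.sub_mem hy (U.smul_mem _ hu))
      (by rw [polar_sub_right, polar_smul_right, smul_eq_mul, div_mul_cancel₀ _ huu, sub_self]))
    rwa [polar_sub_left, polar_smul_left, hLu z hz.1, smul_zero, sub_zero] at h1
  have hL2 : Module.finrank F L = 2 := by
    have h1 := ND.finrank_inf_perp_singleton hQ U u
    have h3 : L < U := lt_of_le_of_ne inf_le_left fun e => huu (hLu u (by rw [e]; exact hu))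
    have := Submodule.finrank_lt_finrank_of_lt h3
    change Module.finrank F U ≤ Module.finrank F L + 1 at h1
    omega
  have hfill : ∀ a ∈ L, a ∉ Submodule.span F {l} → Fam M (w + u) a → Fam M (w + u) l →
      commutator (oGroup Q) ≤ M := by
    intro a ha han hFa hFl
    obtain ⟨c, hc, hQc⟩ := NDLow.exists_value hQ h2 hL hL2.ge (Q c0)
    refine finishGood hQ h2 hn h5 hU hU3 hM hf0 hw hw0 hu hu0 hx hc.1 (by rw [polar_comm]; exact hLu c hc)
      hQc ?_
    have hsup : Submodule.span F {l} ⊔ Submodule.span F {a} = L := by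
      refine Submodule.eq_of_le_of_finrank_le (sup_le ((Submodule.span_singleton_le_iff_mem _ _).2
        (hLmem l hl hul)) ((Submodule.span_singleton_le_iff_mem _ _).2 ha)) ?_
      have := Submodule.finrank_lt_finrank_of_lt (left_lt_sup.2 fun h =>
        han (h (Submodule.mem_span_singleton_self a)) :
        Submodule.span F {l} < Submodule.span F {l} ⊔ Submodule.span F {a})
      rw [finrank_span_singleton hl0] at this
      omega
    rw [← hsup] at hc
    obtain ⟨x1, hx1, x2, hx2, rfl⟩ := Submodule.mem_sup.1 hc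
    obtain ⟨r1, rfl⟩ := Submodule.mem_span_singleton.1 hx1
    obtain ⟨r2, rfl⟩ := Submodule.mem_span_singleton.1 hx2
    exact (hFl.smul r1).add hx (by rw [polar_smul_right, hxl, smul_zero])
      (by rw [polar_smul_right, hxU a ha.1 (hLu a ha), smul_zero]) (hFa.smul r2)
  by_cases hA : ∃ a ∈ L, Q a = Q q ∧ polar Q l a ≠ 0 ∧ a ∉ Submodule.span F {l}
  · refine Or.inl ?_
    obtain ⟨a, ha, hQa, hla, han⟩ := hA
    have hQa0 : Q a ≠ 0 := by rwa [hQa]
    have hc := hproj a ha.1 (hLu a ha) hQa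
    have hFa_of : Fam M (w + u) l → commutator (oGroup Q) ≤ M := fun hFl => by
      refine hfill a ha han ?_ hFl
      have h4 := ((hFl.smul 2).sub hx (by rw [polar_smul_right, hxl, smul_zero])
        (by rw [polar_sub_right, polar_smul_right, polar_smul_right, hxl, hxU a ha.1 (hLu a ha),
          smul_zero, smul_zero, sub_zero]) hc).smul (Q a / polar Q l a)
      convert h4 using 1
      match_scalars <;> field_simp <;> ring
    refine hFa_of ?_
    obtain ⟨s, hs⟩ := exists_avoid h5 [0, 1, -1] (by simp)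
    simp only [List.mem_cons, List.not_mem_nil, or_false, not_or] at hs
    have hxc : polar Q (w + u) ((2 : F) • l - (polar Q l a / Q a) • a) = 0 := by
      rw [polar_sub_right, polar_smul_right, polar_smul_right, hxl, hxU a ha.1 (hLu a ha),
        smul_zero, smul_zero, sub_zero]
    by_cases hQl : Q l = 0
    · -- scale the hyperbolic coordinates
      have hs1 : s * s - 1 ≠ 0 := fun h0 => by
        rcases mul_self_eq_one_iff.1 (sub_eq_zero.1 h0) with h1 | h1
        exacts [hs.2.1 h1, hs.2.2 h1]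
      set a' := s⁻¹ • a + ((s - s⁻¹) * Q a / polar Q l a) • l with ha'
      have ha'L : a' ∈ L := L.add_mem (L.smul_mem _ ha) (L.smul_mem _ (hLmem l hl hul))
      have hQa' : Q a' = Q a := by
        rw [ha', quad_add, quad_smul, quad_smul, hQl, polar_smul_left, polar_smul_right,
          polar_comm (⇑Q) a l, smul_eq_mul, smul_eq_mul]
        have hs0 := hs.1
        field_simp
        ring
      have hla' : polar Q l a' = polar Q l a / s := by
        rw [ha', polar_add_right, polar_smul_right, polar_smul_right, polar_self, hQl, smul_zero,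
          smul_zero, add_zero, smul_eq_mul, inv_mul_eq_div]
      have hc' := hproj a' ha'L.1 (hLu a' ha'L) (hQa'.trans hQa)
      rw [hla', hQa'] at hc'
      have hxc' : polar Q (w + u) ((2 : F) • l - (polar Q l a / s / Q a) • a') = 0 := by
        rw [polar_sub_right, polar_smul_right, polar_smul_right, hxl, hxU a' ha'L.1 (hLu a' ha'L),
          smul_zero, smul_zero, sub_zero]
      have h4 := ((hc.sub hx hxc (by rw [polar_smul_right, hxc', smul_zero]) (hc'.smul (s * s)))).smul
        (-(s * s - 1))⁻¹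
      convert h4 using 1
      have hs0 := hs.1
      rw [ha']
      match_scalars
      all_goals first | (field_simp; ring1) | (rw [eq_comm, inv_mul_eq_one₀ (neg_ne_zero.2 hs1)]; field_simp; ring1)
    · -- reflect in `l`
      set a' := (refl Q l).1 a with ha'
      have ha'L : a' ∈ L := by
        rw [ha', refl_apply]; exact L.add_mem ha (L.smul_mem _ (hLmem l hl hul))
      have hQa' : Q a' = Q a := (refl Q l).2 a
      have hla' : polar Q l a' = -polar Q l a := by
        rw [ha', refl_apply, polar_add_right, polar_smul_right, polar_self, nsmul_eq_mul, Nat.cast_ofNat,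
          polar_comm (⇑Q) a l, smul_eq_mul]
        field_simp
        ring
      have hc' := hproj a' ha'L.1 (hLu a' ha'L) (hQa'.trans hQa)
      rw [hla', hQa'] at hc'
      have hxc' : polar Q (w + u) ((2 : F) • l - (-polar Q l a / Q a) • a') = 0 := by
        rw [polar_sub_right, polar_smul_right, polar_smul_right, hxl, hxU a' ha'L.1 (hLu a' ha'L),
          smul_zero, smul_zero, sub_zero]
      have hk : 4 * Q l * Q a - polar Q l a * polar Q l a ≠ 0 := fun h0 => by
        have hv : (2 : F) • l - (polar Q l a / Q a) • a = 0 := by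
          refine ND.eq_zero hL (L.sub_mem (L.smul_mem _ (hLmem l hl hul)) (L.smul_mem _ ha)) fun y hy => ?_
          have hyspan : y ∈ Submodule.span F {l} ⊔ Submodule.span F {a} := by
            have hsup : Submodule.span F {l} ⊔ Submodule.span F {a} = L := by
              refine Submodule.eq_of_le_of_finrank_le (sup_le ((Submodule.span_singleton_le_iff_mem _ _).2
                (hLmem l hl hul)) ((Submodule.span_singleton_le_iff_mem _ _).2 ha)) ?_
              have := Submodule.finrank_lt_finrank_of_lt (left_lt_sup.2 fun h =>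
                han (h (Submodule.mem_span_singleton_self a)) :
                Submodule.span F {l} < Submodule.span F {l} ⊔ Submodule.span F {a})
              rw [finrank_span_singleton hl0] at this
              omega
            rwa [hsup]
          obtain ⟨x1, hx1, x2, hx2, rfl⟩ := Submodule.mem_sup.1 hyspan
          obtain ⟨r1, rfl⟩ := Submodule.mem_span_singleton.1 hx1
          obtain ⟨r2, rfl⟩ := Submodule.mem_span_singleton.1 hx2
          simp only [polar_add_left, polar_smul_left, polar_sub_right, polar_smul_right, polar_self,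
            nsmul_eq_mul, Nat.cast_ofNat, polar_comm (⇑Q) a l, smul_eq_mul]
          field_simp
          linear_combination r1 * h0
        have h1 : (polar Q l a / Q a) • a ∈ Submodule.span F {l} := by
          rw [← sub_eq_zero.1 hv]
          exact Submodule.smul_mem _ _ (Submodule.mem_span_singleton_self l)
        exact han ((Submodule.smul_mem_iff _ (div_ne_zero hla hQa0)).1 h1)
      have h4 := (hc.add hx hxc hxc' hc').smul (Q l * Q a / (4 * Q l * Q a - polar Q l a * polar Q l a))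
      convert h4 using 1
      rw [ha', refl_apply, polar_comm (⇑Q) a l]
      match_scalars
      all_goals first | (field_simp; ring1) | (rw [div_mul_eq_mul_div, eq_div_iff hk]; field_simp; ring1)
  push Not at hA
  -- the exceptional case
  obtain ⟨a, ha, hQa⟩ := NDLow.exists_value hQ h2 hL hL2.ge (Q q)
  have hlL := hLmem l hl hul
  have hQl : Q l ≠ 0 := fun h0 => by
    have han : a ∉ Submodule.span F {l} := fun hc => hQq (by
      obtain ⟨r, rfl⟩ := Submodule.mem_span_singleton.1 hc
      rw [← hQa, quad_smul, h0, mul_zero])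
    obtain ⟨r, hr⟩ := singular_perp_two hQ hL hL2 hlL hl0 h0 ha (by
      by_contra hne
      exact han (hA a ha hQa hne))
    exact han (Submodule.mem_span_singleton.2 ⟨r, hr.symm⟩)
  have hll : polar Q l l = 2 * Q l := by rw [polar_self, nsmul_eq_mul, Nat.cast_ofNat]
  obtain ⟨l1, hl1, hll1, hQl1, hspan⟩ : ∃ l1 ∈ L, polar Q l l1 = 0 ∧ Q l1 ≠ 0 ∧
      ∀ z ∈ L, ∃ r s : F, z = r • l + s • l1 := by
    obtain ⟨y, hy, hyn⟩ : ∃ y ∈ L, y ∉ Submodule.span F {l} := by
      by_contra hc
      push Not at hc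
      have h1 := Submodule.finrank_mono (show L ≤ Submodule.span F {l} from hc)
      rw [finrank_span_singleton hl0] at h1
      omega
    set l1 := y - (polar Q l y / polar Q l l) • l
    have hl1 : l1 ∈ L := L.sub_mem hy (L.smul_mem _ hlL)
    have hl1n : l1 ∉ Submodule.span F {l} := fun hc => hyn (by
      have := Submodule.add_mem _ hc (Submodule.smul_mem _ (polar Q l y / polar Q l l)
        (Submodule.mem_span_singleton_self l))
      simpa [l1] using this)
    have hll1 : polar Q l l1 = 0 := by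
      rw [polar_sub_right, polar_smul_right, smul_eq_mul, div_mul_cancel₀ _ (by
        rw [hll]; exact mul_ne_zero h2 hQl), sub_self]
    have hsup : Submodule.span F {l} ⊔ Submodule.span F {l1} = L := by
      refine Submodule.eq_of_le_of_finrank_le (sup_le ((Submodule.span_singleton_le_iff_mem _ _).2
        hlL) ((Submodule.span_singleton_le_iff_mem _ _).2 hl1)) ?_
      have := Submodule.finrank_lt_finrank_of_lt (left_lt_sup.2 fun h =>
        hl1n (h (Submodule.mem_span_singleton_self l1)) :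
        Submodule.span F {l} < Submodule.span F {l} ⊔ Submodule.span F {l1})
      rw [finrank_span_singleton hl0] at this
      omega
    have hsp : ∀ z ∈ L, ∃ r s : F, z = r • l + s • l1 := fun z hz => by
      rw [← hsup] at hz
      obtain ⟨x1, hx1, x2, hx2, rfl⟩ := Submodule.mem_sup.1 hz
      obtain ⟨r1, rfl⟩ := Submodule.mem_span_singleton.1 hx1
      obtain ⟨r2, rfl⟩ := Submodule.mem_span_singleton.1 hx2
      exact ⟨r1, r2, rfl⟩
    refine ⟨l1, hl1, hll1, fun h0 => hl1n ?_, hsp⟩
    rw [ND.eq_zero hL hl1 fun z hz => by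
      obtain ⟨r, s, rfl⟩ := hsp z hz
      rw [polar_add_left, polar_smul_left, polar_smul_left, hll1, polar_self, h0]
      simp]
    exact Submodule.zero_mem _
  have hl1n : ∀ r s : F, s ≠ 0 → r • l + s • l1 ∉ Submodule.span F {l} := fun r s hs hc => by
    have h1 := (Submodule.span F {l}).sub_mem hc (Submodule.smul_mem _ r (Submodule.mem_span_singleton_self l))
    rw [add_sub_cancel_left, Submodule.smul_mem_iff _ hs] at h1
    obtain ⟨k, hk⟩ := Submodule.mem_span_singleton.1 h1
    rw [← hk, polar_smul_right, hll, smul_eq_mul] at hll1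
    rw [← hk, (mul_eq_zero.1 hll1).resolve_right (mul_ne_zero h2 hQl)] at hQl1
    simp at hQl1
  have hrs : ∀ r s : F, Q (r • l + s • l1) = Q q → r = 0 ∨ s = 0 := fun r s hQz => by
    by_contra hne
    push Not at hne
    exact hl1n r s hne.2 (hA _ (L.add_mem (L.smul_mem _ hlL) (L.smul_mem _ hl1)) hQz (by
      rw [polar_add_right, polar_smul_right, polar_smul_right, hll1, hll, smul_zero, add_zero, smul_eq_mul]
      exact mul_ne_zero hne.1 (mul_ne_zero h2 hQl)))
  obtain ⟨ρ, σ, hars⟩ := hspan a ha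
  have hQrs : Q a = ρ * ρ * Q l + σ * σ * Q l1 := by
    rw [hars, quad_add, quad_smul, quad_smul, polar_smul_left, polar_smul_right, hll1]
    simp
  have hkey : ∀ t : F, t ≠ 0 → (Q l1 * t ^ 2) ^ 2 = Q l ^ 2 := by
    intro t ht
    by_cases hm : Q l + Q l1 * t ^ 2 = 0
    · rw [show Q l1 * t ^ 2 = -Q l by linear_combination hm]; ring
    have hQm : Q (l + t • l1) = Q l + Q l1 * t ^ 2 := by
      rw [quad_add, quad_smul, polar_smul_right, hll1, smul_zero, add_zero]; ring
    have hp : polar Q a (l + t • l1) = 2 * (ρ * Q l + σ * t * Q l1) := by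
      rw [hars]
      simp only [polar_add_left, polar_add_right, polar_smul_left, polar_smul_right, hll1,
        polar_comm (⇑Q) l1 l, polar_self, smul_eq_mul, nsmul_eq_mul, Nat.cast_ofNat]
      ring
    set K := 2 * (ρ * Q l + σ * t * Q l1) / (Q l + Q l1 * t ^ 2) with hK
    have hKd : K * (Q l + Q l1 * t ^ 2) = 2 * (ρ * Q l + σ * t * Q l1) := div_mul_cancel₀ _ hm
    have himg : (refl Q (l + t • l1)).1 a = (ρ - K) • l + (σ - K * t) • l1 := by
      rw [refl_apply, hp, hQm, hars, hK]
      match_scalars <;> field_simp <;> ring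
    have h1 := hrs _ _ (by rw [← himg, (refl Q (l + t • l1)).2 a, hQa])
    suffices Q l1 * t ^ 2 = Q l by rw [this]
    rcases hrs ρ σ (by rw [← hars, hQa]) with rfl | rfl
    · have hσ : σ ≠ 0 := fun h0 => hQq (by rw [← hQa, hQrs, h0]; ring)
      rcases h1 with h1 | h1
      · exfalso
        have : 2 * (σ * (t * Q l1)) = 0 := by
          rw [hK, zero_sub, neg_eq_zero, div_eq_zero_iff] at h1
          linear_combination h1.resolve_right hm
        exact mul_ne_zero h2 (mul_ne_zero hσ (mul_ne_zero ht hQl1)) this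
      · have h3 : σ * (Q l - Q l1 * t ^ 2) = 0 := by
          linear_combination (Q l + Q l1 * t ^ 2) * h1 + t * hKd
        exact (sub_eq_zero.1 ((mul_eq_zero.1 h3).resolve_left hσ)).symm
    · have hρ : ρ ≠ 0 := fun h0 => hQq (by rw [← hQa, hQrs, h0]; ring)
      rcases h1 with h1 | h1
      · have h3 : ρ * (Q l1 * t ^ 2 - Q l) = 0 := by
          linear_combination (Q l + Q l1 * t ^ 2) * h1 + hKd
        exact sub_eq_zero.1 ((mul_eq_zero.1 h3).resolve_left hρ)
      · exfalso
        have : 2 * (ρ * (Q l * t)) = 0 := by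
          rw [hK, zero_sub, neg_eq_zero] at h1
          rcases mul_eq_zero.1 h1 with h3 | h3
          · rw [div_eq_zero_iff] at h3
            linear_combination t * h3.resolve_right hm
          · exact absurd h3 ht
        exact mul_ne_zero h2 (mul_ne_zero hρ (mul_ne_zero hQl ht)) this
  have hb1 : Q l1 ^ 2 = Q l ^ 2 := by simpa using hkey 1 one_ne_zero
  have hfour : ∀ t : F, t ≠ 0 → t ^ 4 = 1 := fun t ht => by
    have h1 := hkey t ht
    rw [mul_pow, hb1, ← pow_mul] at h1
    exact mul_left_cancel₀ (pow_ne_zero 2 hQl) (by rw [mul_one]; exact h1)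
  have h5' : Nat.card F = 5 := by
    haveI := Fintype.ofFinite F
    classical
    refine le_antisymm ?_ h5
    rw [Nat.card_eq_fintype_card]
    by_contra hlt
    open Polynomial in
    have hz : (X ^ 5 - X : F[X]) = 0 := by
      refine Polynomial.eq_zero_of_natDegree_lt_card_of_eval_eq_zero' _ Finset.univ (fun t _ => ?_) ?_
      · rcases eq_or_ne t 0 with rfl | ht
        · simp
        · simp only [Polynomial.eval_sub, Polynomial.eval_pow, Polynomial.eval_X]
          rw [pow_succ, hfour t ht, one_mul, sub_self]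
      · have : (X ^ 5 - X : F[X]).natDegree ≤ 5 :=
          (Polynomial.natDegree_sub_le _ _).trans (by simp [Polynomial.natDegree_X_le])
        rw [Finset.card_univ]
        omega
    have := congrArg (fun p : Polynomial F => p.coeff 5) hz
    simp [Polynomial.coeff_X_pow, Polynomial.coeff_X] at this
  -- an orthogonal vector with the value of `q`
  obtain ⟨σ', hσ'⟩ : ∃ s : F, s * s * Q l1 = Q q := by
    rcases hrs ρ σ (by rw [← hars, hQa]) with rfl | rfl
    · exact ⟨σ, by rw [← hQa, hQrs]; ring⟩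
    · obtain ⟨y, hy⟩ := sq_of_five h5' (show (Q l / Q l1) ^ 2 = 1 by
        rw [div_pow, hb1, div_self (pow_ne_zero 2 hQl)])
      refine ⟨ρ * y, ?_⟩
      rw [← hQa, hQrs, show ρ * y * (ρ * y) * Q l1 = ρ * ρ * (y ^ 2 * Q l1) by ring, hy,
        div_mul_cancel₀ _ hQl1]
      ring
  have hFl : Fam M (w + u) l := by
    have h1 := (hproj (σ' • l1) (U.smul_mem _ hl1.1) (by rw [polar_smul_right, hLu l1 hl1, smul_zero])
      (by rw [quad_smul, hσ'])).smul (2 : F)⁻¹
    rwa [polar_smul_right, hll1, smul_zero, zero_div, zero_smul, sub_zero, smul_smul, inv_mul_cancel₀ h2,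
      one_smul] at h1
  have hFq : Fam M (w + u) q := by
    have := h.sub hx (by rw [polar_add_right, hxq, hxl, add_zero]) hxl hFl
    rwa [add_sub_cancel_right] at this
  by_cases hgl : (Q l / Q c0) ^ 2 = 1
  · obtain ⟨y, hy⟩ := sq_of_five h5' hgl
    have hy0 : y ≠ 0 := fun h0 => by
      rw [h0, zero_pow (by norm_num), eq_comm, div_eq_zero_iff] at hy
      exact hy.elim hQl hf0.Qc
    refine Or.inl (finishGood hQ h2 hn h5 hU hU3 hM hf0 hw hw0 hu hu0 hx (U.smul_mem y⁻¹ hl)
      (by rw [polar_smul_left, polar_comm, hul, smul_zero]) ?_ (hFl.smul _))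
    have hc00 := hf0.Qc
    rw [quad_smul, show Q l = y ^ 2 * Q c0 by rw [hy, div_mul_cancel₀ _ hc00]]
    field_simp
  refine Or.inr ⟨h5', hFq, ?_, ?_⟩
  · have hz4 := hfour (Q l / Q c0) (div_ne_zero hQl hf0.Qc)
    have hneg : (Q l / Q c0) ^ 2 = -1 := by
      rcases mul_self_eq_one_iff.1 (show (Q l / Q c0) ^ 2 * (Q l / Q c0) ^ 2 = 1 by
        rw [← pow_add]; exact hz4) with h1 | h1
      exacts [absurd h1 hgl, h1]
    have hs4 : σ' ^ 4 = 1 := hfour σ' fun h0 => hQq (by rw [← hσ', h0]; ring)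
    calc (Q q * Q c0) ^ 2 = σ' ^ 4 * (Q l1 ^ 2 * Q c0 ^ 2) := by rw [← hσ']; ring
      _ = (Q l / Q c0) ^ 2 * (Q c0 ^ 4) := by
          rw [hs4, hb1]; have hc00 := hf0.Qc; field_simp
      _ = -1 := by rw [hneg, hfour _ hf0.Qc, mul_one]
  · obtain ⟨y, hy⟩ := sq_of_five h5' (show (-(Q l / Q l1)) ^ 2 = 1 by
      rw [neg_sq, div_pow, hb1, div_self (pow_ne_zero 2 hQl)])
    have hQe : Q (l + y • l1) = 0 := by
      rw [quad_add, quad_smul, polar_smul_right, hll1, smul_zero, add_zero,
        show y * y = -(Q l / Q l1) by rw [← hy]; ring, neg_mul, div_mul_cancel₀ _ hQl1, add_neg_cancel]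
    have heU : l + y • l1 ∈ L := L.add_mem hlL (L.smul_mem _ hl1)
    have he0 : l + y • l1 ≠ 0 := fun h0 => by
      have h1 := congrArg (fun z => polar Q l z) h0
      simp [polar_add_right, polar_smul_right, hll1, hll, h2, hQl] at h1
    obtain ⟨s, hs⟩ := class_perp hQ h2 hn h5 hU hU3 hM hf0 heU.1 he0 hQe hu
      (by rw [polar_comm]; exact hLu _ heU)
    have hs0 : s ≠ 0 := fun h0 => hQu (by rw [hs, h0]; ring)
    rw [show Q w = -(s ^ 2 * Q c0) by linear_combination hQwu - hs, neg_div,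
      mul_div_cancel_right₀ _ hf0.Qc, neg_sq, ← pow_mul]
    exact hfour s hs0

/-- Moving a family with all its weight in the plane. -/
theorem stepD {w u q : V} (hw : w ∈ perpS Q U) (hu : u ∈ U) (hq : q ∈ perpS Q U) (hx : Q (w + u) = 0)
    (hQu : Q u ≠ 0) (hwq : polar Q w q = 0) (hQq : Q q ≠ 0) (h : Fam M (w + u) q) {σ : F} (hσ : σ ≠ 0) :
    ∃ w' u' q' l', w' ∈ perpS Q U ∧ w' ≠ 0 ∧ u' ∈ U ∧ q' ∈ perpS Q U ∧ l' ∈ U ∧ Q (w' + u') = 0 ∧
      polar Q (w' + u') (q' + l') = 0 ∧ Fam M (w' + u') (q' + l') ∧ Q (q' + l') = Q q ∧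
      Q w' = (1 + Q q * (Q c0 * σ ^ 2)) ^ 2 * Q w + (Q c0 * σ ^ 2) ^ 2 * Q q ∧
      (∀ η : F, l' - η • u' ≠ 0) ∧
      (1 - Q q * (Q c0 * σ ^ 2) ≠ 0 → ∀ η : F, q' - η • w' ≠ 0) := by
  have hQwu : Q w + Q u = 0 := by
    rwa [quad_add, polar_comm (⇑Q) w u, hw u hu, add_zero] at hx
  have hQw : Q w ≠ 0 := fun h0 => hQu (by rwa [h0, zero_add] at hQwu)
  have hu0 : u ≠ 0 := fun h0 => hQu (by rw [h0, QuadraticMap.map_zero])
  obtain ⟨e, he, hQe, hue⟩ := ND.exists_singular_partner hQ hU (by omega) hu hu0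
  set π := polar Q e u with hπ
  have hπ0 : π ≠ 0 := by rw [hπ, polar_comm]; exact hue
  set f := u - (Q u / π) • e with hfdef
  have hQf : Q f = 0 := by
    rw [hfdef, sub_eq_add_neg, ← neg_smul, quad_add, quad_smul, hQe, polar_smul_right,
      polar_comm (⇑Q) u e, ← hπ, smul_eq_mul]
    field_simp
    ring
  have hef : polar Q e f = π := by
    rw [hfdef, polar_sub_right, polar_smul_right, polar_self, hQe, smul_zero, smul_zero, sub_zero, hπ]
  obtain ⟨c, hc⟩ := exists_frame_pair hQ h2 hU hU3 he (U.sub_mem hu (U.smul_mem _ he)) hQe hQf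
    (by rw [hef]; exact hπ0)
  have huc : polar Q u c = 0 := by
    have h1 : u = f + (Q u / π) • e := by rw [hfdef, sub_add_cancel]
    rw [h1, polar_add_left, polar_smul_left, hc.fc, hc.ec, smul_zero, add_zero]
  obtain ⟨r, hr⟩ := class_perp hQ h2 hn h5 hU hU3 hM hf0 he
    (fun h0 => hue (by rw [h0, polar_zero_right])) hQe hc.hc hc.ec
  have hr0 : r ≠ 0 := fun h0 => hc.Qc (by rw [hr, h0]; ring)
  set k := (σ / (r * π)) • c with hk
  have hkU : k ∈ U := U.smul_mem _ hc.hc
  have hek : polar Q e k = 0 := by rw [hk, polar_smul_right, hc.ec, smul_zero]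
  have huk : polar Q u k = 0 := by rw [hk, polar_smul_right, huc, smul_zero]
  have hQk : Q k * (π * π) = Q c0 * σ ^ 2 := by
    rw [hk, quad_smul, hr]; field_simp
  set κ := Q c0 * σ ^ 2 with hκ
  have hκ0 : κ ≠ 0 := mul_ne_zero hf0.Qc (pow_ne_zero 2 hσ)
  set u1 := u + π • k - (Q k * π) • e with hu1
  have hu1U : u1 ∈ U := U.sub_mem (U.add_mem hu (U.smul_mem _ hkU)) (U.smul_mem _ he)
  have hS : (siegel Q e k).1 (w + u) = w + u1 := by
    rw [map_add, siegel_fix hQe hek (by rw [polar_comm]; exact hw e he) (by rw [polar_comm]; exact hw k hkU),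
      siegel_apply hQe hek, huk, polar_comm (⇑Q) u e, ← hπ, zero_add]
  have hSq : (siegel Q e k).1 q = q :=
    siegel_fix hQe hek (by rw [polar_comm]; exact hq e he) (by rw [polar_comm]; exact hq k hkU)
  have hxq : polar Q (w + u) q = 0 := by rw [polar_add_left, hwq, hq u hu, add_zero]
  have h1 := h.conj (siegelU hQ h2 hn h5 hU hU3 hM he hkU hQe hek) hx hxq
  rw [hS, hSq] at h1
  have hx1 : Q (w + u1) = 0 := by rw [← hS]; exact ((siegel Q e k).2 _).trans hx
  have hx1q : polar Q (w + u1) q = 0 := by rw [← hS]; nth_rewrite 1 [← hSq]; rw [polar_oGroup, hxq]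
  have h3 := h1.conj (h.one) hx1 hx1q
  have hp : polar Q (w + u1) (w + u) = -κ := by
    rw [hu1]
    simp only [polar_add_left, polar_add_right, polar_sub_left, polar_smul_left, polar_self,
      polar_comm (⇑Q) k w, hw k hkU, polar_comm (⇑Q) e w, hw e he, polar_comm (⇑Q) w u, hw u hu,
      polar_comm (⇑Q) k u, huk, ← hπ, smul_zero, smul_eq_mul, nsmul_eq_mul, Nat.cast_ofNat,
      show polar Q w k = 0 by rw [polar_comm]; exact hw k hkU,
      show polar Q w e = 0 by rw [polar_comm]; exact hw e he]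
    linear_combination 2 * hQwu - hQk
  set w' := (1 + Q q * κ) • w + (-κ) • q with hw'
  set u' := u1 + (Q q * κ) • u with hu'
  have hz : (siegel Q (w + u) q).1 (w + u1) = w' + u' := by
    rw [siegel_apply hx hxq, hp, hx1q, hw', hu']
    module
  have hb : (siegel Q (w + u) q).1 q = (q + (-(2 * Q q)) • w) + (-(2 * Q q)) • u := by
    rw [siegel_apply hx hxq, polar_comm (⇑Q) q (w + u), hxq, polar_self, nsmul_eq_mul, Nat.cast_ofNat]
    module
  rw [hz, hb] at h3
  have hwq' : polar Q q w = 0 := by rw [polar_comm]; exact hwq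
  have hw'0 : w' ≠ 0 := fun h0 => by
    have h4 := congrArg (fun z => polar Q q z) h0
    simp [hw', polar_add_right, polar_smul_right, hwq', polar_self, hκ0, hQq, h2] at h4
  have huk' : ∀ t s : F, s • u' ≠ t • u ∨ s = 0 := fun t s => by
    by_cases hs : s = 0
    · exact Or.inr hs
    refine Or.inl fun h0 => ?_
    have h4 := congrArg (fun z => polar Q k z) h0
    have hku : polar Q k u = 0 := by rw [polar_comm]; exact huk
    have hke : polar Q k e = 0 := by rw [polar_comm]; exact hek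
    simp only [hu', hu1, polar_smul_right, polar_add_right, polar_sub_right, hku, hke, polar_self,
      nsmul_eq_mul, Nat.cast_ofNat, smul_zero, smul_eq_mul, mul_zero, zero_add, add_zero, sub_zero, zero_eq_mul,
      eq_comm (a := (0 : F)), mul_eq_zero] at h4
    rcases h4 with h4 | h4 | h4 | h4
    exacts [hs h4, hπ0 h4, h2 h4,
      hκ0 (by rw [← hQk, h4, zero_mul])]
  refine ⟨w', u', q + (-(2 * Q q)) • w, (-(2 * Q q)) • u,
    Submodule.add_mem _ (Submodule.smul_mem _ _ hw) (Submodule.smul_mem _ _ hq), hw'0,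
    U.add_mem hu1U (U.smul_mem _ hu), Submodule.add_mem _ hq (Submodule.smul_mem _ _ hw),
    U.smul_mem _ hu, ?_, ?_, h3, ?_, ?_, fun η hη => ?_, fun hne η hη => ?_⟩
  · rw [← hz]; exact ((siegel Q (w + u) q).2 _).trans hx1
  · rw [← hz, ← hb, polar_oGroup, hx1q]
  · rw [← hb]; exact (siegel Q (w + u) q).2 q
  · rw [hw', quad_add, quad_smul, quad_smul, polar_smul_left, polar_smul_right, hwq]
    simp only [smul_zero, add_zero]
    ring
  · rw [sub_eq_zero] at hη
    rcases huk' (-(2 * Q q)) η with h4 | h4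
    · exact h4 hη.symm
    · rw [h4, zero_smul, smul_eq_zero, neg_eq_zero, mul_eq_zero] at hη
      exact hη.elim (fun h => h.elim h2 hQq) hu0
  · have h4 := congrArg (fun z => polar Q q z) hη
    have h6 := congrArg (fun z => polar Q w z) hη
    simp only [hw', polar_sub_right, polar_add_right, polar_smul_right, polar_self, hwq, hwq',
      nsmul_eq_mul, Nat.cast_ofNat, smul_zero, smul_eq_mul, polar_zero_right, mul_zero, zero_add,
      add_zero] at h4 h6
    have e1 : 1 + η * κ = 0 := by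
      refine (mul_eq_zero.1 (show (1 + η * κ) * (2 * Q q) = 0 by linear_combination h4)).resolve_right ?_
      exact mul_ne_zero h2 hQq
    have e2 : -(2 * Q q) - η * (1 + Q q * κ) = 0 := by
      refine (mul_eq_zero.1 (show (-(2 * Q q) - η * (1 + Q q * κ)) * (2 * Q w) = 0 by
        linear_combination h6)).resolve_right ?_
      exact mul_ne_zero h2 hQw
    exact hne (by linear_combination κ * e2 + (1 + Q q * κ) * e1)

/-- The exceptional family moves out of the exceptional case. -/
theorem special {w u q : V} (hw : w ∈ perpS Q U) (hu : u ∈ U) (hq : q ∈ perpS Q U) (hx : Q (w + u) = 0)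
    (hQu : Q u ≠ 0) (hwq : polar Q w q = 0) (h : Fam M (w + u) q) (h5' : Nat.card F = 5)
    (hn2 : (Q q * Q c0) ^ 2 = -1) (hm2 : (Q w / Q c0) ^ 2 = 1) : commutator (oGroup Q) ≤ M := by
  set m := Q w / Q c0 with hm
  set n := Q q * Q c0 with hn'
  have hQq : Q q ≠ 0 := fun h0 => by simp [hn', h0] at hn2
  have hm0 : m ≠ 0 := fun h0 => by simp [h0] at hm2
  obtain ⟨σ, hσ⟩ := sq_of_five h5' (show (-m) ^ 2 = 1 by rw [neg_sq, hm2])
  have hσ0 : σ ≠ 0 := fun h0 => hm0 (by
    rw [h0, zero_pow (by norm_num), eq_comm, neg_eq_zero] at hσ; exact hσ)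
  obtain ⟨w', u', q', l', hw', hw'0, hu', hq', hl', hx', hxb, hF, hQb, hQw', hlne, hqne⟩ :=
    stepD hQ h2 hn h5 hU hU3 hM hf0 hw hu hq hx hQu hwq hQq h hσ0
  have hV : Q w' / Q c0 = -n := by
    have hw1 : Q w = m * Q c0 := by rw [hm, div_mul_cancel₀ _ hf0.Qc]
    rw [hQw', hσ, show Q q * (Q c0 * -m) = -(n * m) by rw [hn']; ring, hw1]
    rw [div_eq_iff hf0.Qc]
    linear_combination (Q c0 * m) * hn2 + (Q c0 * m * n ^ 2 - n * Q c0) * hm2 + (-(Q c0 * m ^ 2)) * hn'

  have hQw'0 : Q w' ≠ 0 := fun h0 => by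
    rw [h0, zero_div, eq_comm, neg_eq_zero] at hV
    rw [hV] at hn2
    simp at hn2
  have hQu' : Q u' ≠ 0 := fun h0 => hQw'0 (by
    rw [quad_add, h0, polar_comm (⇑Q) w' u', hw' u' hu', add_zero, add_zero] at hx'; exact hx')
  obtain ⟨η, hq2, hl2, hwq2, hul2, -, hF2⟩ := split hQ h2 hn h5 hU hU3 hM hf0 hw' hu' hx' hQu' hq' hl' hxb hF
  have hnm : 1 - Q q * (Q c0 * σ ^ 2) ≠ 0 := fun h0 => by
    rw [hσ] at h0
    have h6 : n * m = -1 := by rw [hn']; linear_combination h0
    have h7 : (n * m) ^ 2 = 1 := by rw [h6]; norm_num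
    rw [mul_pow, hn2, hm2, mul_one] at h7
    exact h2 (by linear_combination -h7)
  rcases caseL hQ h2 hn h5 hU hU3 hM hf0 hw' hu' hq2 hl2 hx' hQu' hwq2 hul2 (hlne η)
    (fun h0 => absurd h0 (hqne hnm η)) hF2 with h1 | ⟨-, -, -, h3⟩
  · exact h1
  · rw [hV, neg_sq, hn2] at h3
    exact absurd (by linear_combination -h3) h2

omit hf0 in
/-- Every overgroup outside the stabiliser contains `Ω`. -/
theorem three_key (hnle : ¬ M ≤ stabO Q U) : commutator (oGroup Q) ≤ M := by
  obtain ⟨g, hg, hgU⟩ := SetLike.not_le_iff_exists.1 hnle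
  obtain ⟨z, hz, hz0, hQz⟩ := exists_singular_of_three (Q := Q) U (by omega)
  obtain ⟨f1, c1, hf1⟩ := exists_frame hQ h2 hU hU3 hz hz0 hQz
  obtain ⟨e0, he0, he00, hQe0, hge⟩ : ∃ e ∈ U, e ≠ 0 ∧ Q e = 0 ∧ g.1 e ∉ U := by
    by_contra hcon
    push Not at hcon
    refine hgU (mem_stabO_of_le fun v hv => ?_)
    have he := hcon z hz hz0 hQz
    have hf := hcon f1 hf1.hf (fun h0 => hf1.ef (by rw [h0, polar_zero_right])) hf1.Qf
    set α := -Q c1 / polar Q z f1 with hα
    have hef := hf1.ef
    have hthree : g.1 (z + α • f1 + c1) ∈ U := by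
      refine hcon _ (U.add_mem (U.add_mem hz (U.smul_mem _ hf1.hf)) hf1.hc) (fun h0 => hef ?_) ?_
      · have h1 := congrArg (fun y => polar Q z y) h0
        simp [polar_add_right, polar_smul_right, polar_self, hQz, hf1.ec, hα, hef, hf1.Qc] at h1
      · rw [quad_add, quad_add, quad_smul, hQz, hf1.Qf, polar_add_left, polar_smul_left, polar_smul_right,
          hf1.ec, hf1.fc, smul_eq_mul, smul_zero, hα]
        field_simp
        ring
    obtain ⟨a, b, d, rfl⟩ := hf1.span v hv
    have hc : g.1 c1 = g.1 (z + α • f1 + c1) - g.1 z - α • g.1 f1 := by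
      rw [map_add, map_add, map_smul]; abel
    rw [map_add, map_add, map_smul, map_smul, map_smul, hc]
    exact U.add_mem (U.add_mem (U.smul_mem _ he) (U.smul_mem _ hf))
      (U.smul_mem _ (U.sub_mem (U.sub_mem hthree he) (U.smul_mem _ hf)))
  obtain ⟨f0, c0, hf0⟩ := exists_frame hQ h2 hU hU3 he0 he00 hQe0
  obtain ⟨u, hu, w, hw, hxe⟩ := ND.decomp hQ hU (g.1 e0)
  obtain ⟨l, hl, q, hq, hbe⟩ := ND.decomp hQ hU (g.1 c0)
  have hF := (famU hQ h2 hn h5 hU hU3 hM hf0.he hf0.hc hQe0 hf0.ec).conj hg hQe0 hf0.ec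
  have hw0 : w ≠ 0 := fun h0 => hge (by rw [hxe, h0, add_zero]; exact hu)
  have hx : Q (w + u) = 0 := by rw [add_comm, ← hxe]; exact (g.2 e0).trans hQe0
  have hxb : polar Q (w + u) (q + l) = 0 := by
    rw [add_comm w, add_comm q, ← hxe, ← hbe, polar_oGroup, hf0.ec]
  have hQb : Q (q + l) = Q c0 := by rw [add_comm, ← hbe]; exact g.2 c0
  rw [hxe, hbe, add_comm u, add_comm l] at hF
  have hQwu : Q w + Q u = 0 := by
    rwa [quad_add, polar_comm (⇑Q) w u, hw u hu, add_zero] at hx
  by_cases hQu : Q u = 0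
  · exact sing hQ h2 hn h5 hU hU3 hM hf0 hw hw0 hu (by linear_combination hQwu - hQu) hQu hxb
      (hQb ▸ hf0.Qc) hF
  obtain ⟨η, hq', hl', hwq, hul, hQ', hF'⟩ := split hQ h2 hn h5 hU hU3 hM hf0 hw hu hx hQu hq hl hxb hF
  rw [hQb] at hQ'
  by_cases hl0 : l - η • u = 0
  swap
  · rcases caseL hQ h2 hn h5 hU hU3 hM hf0 hw hu hq' hl' hx hQu hwq hul hl0
      (fun h0 => by rwa [h0, zero_add] at hQ') hF' with h1 | ⟨a1, a2, a3, a4⟩
    · exact h1
    · exact special hQ h2 hn h5 hU hU3 hM hf0 hw hu hq' hx hQu hwq a2 a1 a3 a4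
  rw [hl0, add_zero] at hQ' hF'
  obtain ⟨w', u', q2, l2, hw', hw'0, hu', hq2, hl2, hx', hxb', hF2, hQb', -, hlne, -⟩ :=
    stepD hQ h2 hn h5 hU hU3 hM hf0 hw hu hq' hx hQu hwq (hQ' ▸ hf0.Qc) hF' (one_ne_zero (α := F))
  by_cases hQu' : Q u' = 0
  · refine sing hQ h2 hn h5 hU hU3 hM hf0 hw' hw'0 hu' ?_ hQu' hxb' (by rw [hQb', hQ']; exact hf0.Qc) hF2
    rwa [quad_add, hQu', polar_comm (⇑Q) w' u', hw' u' hu', add_zero, add_zero] at hx'
  obtain ⟨η', hq3, hl3, hwq3, hul3, hQ3, hF3⟩ :=
    split hQ h2 hn h5 hU hU3 hM hf0 hw' hu' hx' hQu' hq2 hl2 hxb' hF2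
  rcases caseL hQ h2 hn h5 hU hU3 hM hf0 hw' hu' hq3 hl3 hx' hQu' hwq3 hul3 (hlne η')
    (fun h0 => by rw [h0, zero_add] at hQ3; rw [hQ3, hQb', hQ']) hF3 with h1 | ⟨a1, a2, a3, a4⟩
  · exact h1
  · exact special hQ h2 hn h5 hU hU3 hM hf0 hw' hu' hq3 hx' hQu' hwq3 a2 a1 a3 a4

omit hf0 hM in
/-- The stabiliser is proper. -/
theorem three_proper : ¬ commutator (oGroup Q) ≤ stabO Q U := by
  intro hle
  have hW2 := finrank_W hQ h2 hn h5 hU hU3
  obtain ⟨b, hb, hb0⟩ := Submodule.exists_mem_ne_zero_of_ne_bot (p := perpS Q U)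
    (fun h => by rw [h, finrank_bot] at hW2; omega)
  obtain ⟨u, hu, hu0, hQu⟩ := exists_singular_of_three (Q := Q) U (by omega)
  obtain ⟨y, hy, huy⟩ := ND.partner hU hu hu0
  have hub : polar Q u b = 0 := hb u hu
  have h := (hle (siegel_mem_commutator hQ (by omega) hQu hub) y).2 hy
  rw [siegel_apply hQu hub] at h
  have h3 := U.add_mem h (U.smul_mem (polar Q y b + Q b * polar Q y u) hu)
  rw [sub_add_cancel] at h3
  have h4 := U.sub_mem h3 hy
  rw [add_sub_cancel_left] at h4
  exact smul_ne_zero (by rwa [polar_comm]) hb0 (ND.eq_zero hU h4 (Submodule.smul_mem _ _ hb))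

end CfsgLib.Geo.SpFourOdd.Five
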