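import Cfsg.Agent.Geo.OrthNondegLow

/-!
Tools for the stabiliser of a non-degenerate three-space of a five-dimensional orthogonal space in
odd characteristic.
-/

set_option autoImplicit false
set_option linter.unusedSectionVars false

namespace CfsgLib.Geo.SpFourOdd.Five

open QuadraticMap CfsgLib.Forms CfsgLib.Quad CfsgLib.Geo.OS

variable {F V : Type*} [Field F] [AddCommGroup V] [Module F V]

omit [AddCommGroup V] [Module F V] in
/-- A scalar outside a short list. -/
theorem exists_avoid (h5 : 5 ≤ Nat.card F) (l : List F) (hl : l.length ≤ 4) : ∃ t : F, t ∉ l := by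
  classical
  have : Finite F := Nat.finite_of_card_ne_zero (by omega)
  have := Fintype.ofFinite F
  rw [Nat.card_eq_fintype_card] at h5
  by_contra hc
  push Not at hc
  have h1 : (Finset.univ : Finset F) ⊆ l.toFinset := fun t _ => List.mem_toFinset.2 (hc t)
  have h2 := (Finset.card_le_card h1).trans (List.toFinset_card_le l)
  rw [Finset.card_univ] at h2
  omega

variable {Q : QuadraticForm F V}

/-- The Siegel transformations `S(x, t b)` lie in `M`. -/
def Fam (M : Subgroup (oGroup Q)) (x b : V) : Prop := ∀ t : F, siegel Q x (t • b) ∈ M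

variable {M : Subgroup (oGroup Q)}

theorem Fam.one {x b : V} (h : Fam M x b) : siegel Q x b ∈ M := by simpa using h 1

theorem Fam.add {x a b : V} (hx : Q x = 0) (hxa : polar Q x a = 0) (hxb : polar Q x b = 0)
    (ha : Fam M x a) (hb : Fam M x b) : Fam M x (a + b) := fun t => by
  rw [smul_add, ← siegel_mul hx (by rw [polar_smul_right, hxa, smul_zero])
    (by rw [polar_smul_right, hxb, smul_zero])]
  exact mul_mem (ha t) (hb t)

theorem Fam.smul {x b : V} (c : F) (h : Fam M x b) : Fam M x (c • b) := fun t => by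
  rw [smul_smul]; exact h _

theorem Fam.sub {x a b : V} (hx : Q x = 0) (hxa : polar Q x a = 0) (hxb : polar Q x b = 0)
    (ha : Fam M x a) (hb : Fam M x b) : Fam M x (a - b) := by
  rw [sub_eq_add_neg]
  refine ha.add hx hxa (by rw [polar_neg_right, hxb, neg_zero]) ?_
  rw [← neg_one_smul F b]
  exact hb.smul _

theorem Fam.conj {g : oGroup Q} (hg : g ∈ M) {x b : V} (hx : Q x = 0) (hxb : polar Q x b = 0)
    (h : Fam M x b) : Fam M (g.1 x) (g.1 b) := fun t => by
  rw [← map_smul]
  exact siegel_conj_mem hg hx (by rw [polar_smul_right, hxb, smul_zero]) (h t)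

theorem Fam.shift {x b : V} (hx : Q x = 0) (hxb : polar Q x b = 0) (c : F) (h : Fam M x b) :
    Fam M x (b + c • x) := fun t => by
  rw [smul_add, smul_smul, siegel_add_smul hx (by rw [polar_smul_right, hxb, smul_zero])]
  exact h t

/-- Long root elements are symmetric. -/
theorem siegel_swap {x y : V} (hx : Q x = 0) (hy : Q y = 0) (hxy : polar Q x y = 0) :
    siegel Q x y = siegel Q y (-x) := by
  refine Subtype.ext (LinearEquiv.ext fun v => ?_)
  rw [siegel_apply hx hxy, siegel_apply hy (by rw [polar_neg_right, polar_comm, hxy, neg_zero]),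
    polar_neg_right, QuadraticMap.map_neg, hx, hy]
  module

/-- The diagonal element on a hyperbolic pair, as a word in Siegel transformations. -/
noncomputable def torus (Q : QuadraticForm F V) (e y c : V) (τ : F) : oGroup Q :=
  siegel Q y (((τ * polar Q e y * Q c))⁻¹ • c) * siegel Q e ((τ - 1) • c) *
    siegel Q y ((-(polar Q e y * Q c)⁻¹) • c) * siegel Q e ((-((τ - 1) / τ)) • c)

theorem torus_mem {e y c : V} (hy : Fam M y c) (he : Fam M e c) (τ : F) : torus Q e y c τ ∈ M :=
  mul_mem (mul_mem (mul_mem (hy _) (he _)) (hy _)) (he _)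

theorem torus_apply {e y c : V} (he : Q e = 0) (hy : Q y = 0) (hey : polar Q e y ≠ 0) (hec : polar Q e c = 0)
    (hyc : polar Q y c = 0) (hc : Q c ≠ 0) {τ : F} (hτ : τ ≠ 0) (v : V) :
    (torus Q e y c τ).1 v = v + ((τ ^ 2 - 1) * polar Q v y / polar Q e y) • e +
      (((τ ^ 2)⁻¹ - 1) * polar Q v e / polar Q e y) • y := by
  have hec' : ∀ r : F, polar Q e (r • c) = 0 := fun r => by rw [polar_smul_right, hec, smul_zero]
  have hyc' : ∀ r : F, polar Q y (r • c) = 0 := fun r => by rw [polar_smul_right, hyc, smul_zero]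
  change (siegel Q y _).1 ((siegel Q e _).1 ((siegel Q y _).1 ((siegel Q e _).1 v))) = _
  rw [siegel_apply he (hec' _), siegel_apply hy (hyc' _), siegel_apply he (hec' _),
    siegel_apply hy (hyc' _)]
  simp only [polar_add_left, polar_sub_left, polar_smul_left, polar_smul_right, polar_self, quad_smul,
    he, hy, polar_comm (⇑Q) y e, polar_comm (⇑Q) c e, polar_comm (⇑Q) c y, hec, hyc, smul_zero,
    smul_eq_mul, mul_zero, add_zero, zero_add, sub_zero, nsmul_eq_mul, Nat.cast_ofNat]
  match_scalars <;> field_simp <;> ring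

/-- The ratio of two diagonal elements sharing one line is a Siegel transformation. -/
theorem torus_ratio {e f x c : V} (he : Q e = 0) (hf : Q f = 0) (hx : Q x = 0) (hπ : polar Q e x ≠ 0)
    (hef : polar Q e f = polar Q e x) (hec : polar Q e c = 0) (hfc : polar Q f c = 0)
    (hxc : polar Q x c = 0) (hc : Q c ≠ 0) {τ : F} (hτ : τ ≠ 0) :
    torus Q e x c τ * torus Q e f c τ⁻¹ = siegel Q e (((1 - τ ^ 2) / polar Q e x) • (x - f)) := by
  refine Subtype.ext (LinearEquiv.ext fun v => ?_)
  have hea : polar Q e (((1 - τ ^ 2) / polar Q e x) • (x - f)) = 0 := by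
    rw [polar_smul_right, polar_sub_right, hef, sub_self, smul_zero]
  have hQa : Q (x - f) = -polar Q x f := by
    rw [sub_eq_add_neg, quad_add, QuadraticMap.map_neg, hx, hf, polar_neg_right]; ring
  change (torus Q e x c τ).1 ((torus Q e f c τ⁻¹).1 v) = _
  rw [torus_apply he hf (hef ▸ hπ) hec hfc hc (inv_ne_zero hτ), torus_apply he hx hπ hec hxc hc hτ,
    siegel_apply he hea, quad_smul, hQa]
  simp only [polar_add_left, polar_smul_left, polar_smul_right, polar_sub_right, polar_self, he, hef,
    polar_comm (⇑Q) f e, polar_comm (⇑Q) f x, smul_eq_mul, nsmul_eq_mul, Nat.cast_ofNat, mul_zero,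
    add_zero]
  match_scalars <;> field_simp <;> ring

variable [Finite F] [FiniteDimensional F V] (hQ : (polarBilin Q).Nondegenerate) (h2 : (2 : F) ≠ 0)
  {U : Submodule F V}

/-- A hyperbolic frame of a three-space. -/
structure Frame (Q : QuadraticForm F V) (U : Submodule F V) (e f c : V) : Prop where
  he : e ∈ U
  hf : f ∈ U
  hc : c ∈ U
  Qe : Q e = 0
  Qf : Q f = 0
  ef : polar Q e f ≠ 0
  ec : polar Q e c = 0
  fc : polar Q f c = 0
  Qc : Q c ≠ 0
  span : ∀ v ∈ U, ∃ a b d : F, v = a • e + b • f + d • c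

include hQ h2

/-- A frame from a hyperbolic pair. -/
theorem exists_frame_pair (hU : ND Q U) (hU3 : Module.finrank F U = 3) {e f : V} (he : e ∈ U) (hf : f ∈ U)
    (hQe : Q e = 0) (hQf : Q f = 0) (hef : polar Q e f ≠ 0) : ∃ c, Frame Q U e f c := by
  have _ := h2
  set P : Submodule F V := Submodule.span F {e, f}
  have h1 := ND.finrank_inf_perp hQ U P
  have hP : Module.finrank F P ≤ 2 := by
    classical
    refine (finrank_span_le_card ({e, f} : Set V)).trans ?_
    simp only [Set.toFinset_insert, Set.toFinset_singleton]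
    exact Finset.card_le_two
  obtain ⟨c, hc, hc0⟩ := Submodule.exists_mem_ne_zero_of_ne_bot (p := U ⊓ perpS Q P) fun h => by
    change Module.finrank F U ≤ Module.finrank F ↥(U ⊓ perpS Q P) + _ at h1
    rw [h, finrank_bot] at h1
    omega
  have hec : polar Q e c = 0 := hc.2 e (Submodule.subset_span (Set.mem_insert e _))
  have hfc : polar Q f c = 0 := hc.2 f (Submodule.subset_span (Set.mem_insert_of_mem e rfl))
  have hli : LinearIndependent F ![e, f, c] := by
    refine Fintype.linearIndependent_iff.2 fun a ha => ?_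
    simp only [Fin.sum_univ_three, Matrix.cons_val_zero, Matrix.cons_val_one, Matrix.cons_val_two,
      Matrix.tail_cons, Matrix.head_cons] at ha
    have hb : a 1 = 0 := by
      have h := congrArg (fun v => polar Q e v) ha
      simpa [polar_add_right, polar_smul_right, polar_self, hQe, hec, hef] using h
    have ha0 : a 0 = 0 := by
      have h := congrArg (fun v => polar Q f v) ha
      simpa [polar_add_right, polar_smul_right, polar_self, hQf, hfc, polar_comm (⇑Q) f e, hef] using h
    have hd : a 2 = 0 := by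
      rw [ha0, hb, zero_smul, zero_smul, zero_add, zero_add] at ha
      exact (smul_eq_zero.1 ha).resolve_right hc0
    intro i
    fin_cases i <;> assumption
  have hspan : Submodule.span F (Set.range ![e, f, c]) = U := by
    refine Submodule.eq_of_le_of_finrank_le (Submodule.span_le.2 ?_) ?_
    · rintro _ ⟨i, rfl⟩
      fin_cases i
      exacts [he, hf, hc.1]
    · rw [finrank_span_eq_card hli, hU3, Fintype.card_fin]
  have hall : ∀ v ∈ U, ∃ a b d : F, v = a • e + b • f + d • c := fun v hv => by
    rw [← hspan, Submodule.mem_span_range_iff_exists_fun] at hv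
    obtain ⟨a, rfl⟩ := hv
    exact ⟨a 0, a 1, a 2, by simp [Fin.sum_univ_three]⟩
  refine ⟨c, he, hf, hc.1, hQe, hQf, hef, hec, hfc, fun h0 => hc0 (ND.eq_zero hU hc.1 fun v hv => ?_), hall⟩
  obtain ⟨a, b, d, rfl⟩ := hall v hv
  simp only [polar_add_left, polar_smul_left, polar_self, h0, hec, hfc, smul_zero, add_zero]

/-- A frame at a singular vector. -/
theorem exists_frame (hU : ND Q U) (hU3 : Module.finrank F U = 3) {e : V} (he : e ∈ U) (he0 : e ≠ 0)
    (hQe : Q e = 0) : ∃ f c, Frame Q U e f c := by
  obtain ⟨f, hf, hQf, hef⟩ := ND.singular_partner hU he he0 hQe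
  obtain ⟨c, h⟩ := exists_frame_pair hQ h2 hU hU3 he hf hQe hQf hef
  exact ⟨f, c, h⟩

omit hQ h2 in
theorem Frame.symm {e f c : V} (h : Frame Q U e f c) : Frame Q U f e c where
  he := h.hf
  hf := h.he
  hc := h.hc
  Qe := h.Qf
  Qf := h.Qe
  ef := by rw [polar_comm]; exact h.ef
  ec := h.fc
  fc := h.ec
  Qc := h.Qc
  span v hv := by
    obtain ⟨a, b, d, rfl⟩ := h.span v hv
    exact ⟨b, a, d, by abel⟩

omit h2 in
/-- In a non-degenerate plane an orthogonal of a non-zero singular vector is a multiple of it. -/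
theorem singular_perp_two {W : Submodule F V} (hW : ND Q W) (hW2 : Module.finrank F W = 2) {w y : V}
    (hw : w ∈ W) (hw0 : w ≠ 0) (hQw : Q w = 0) (hy : y ∈ W) (hwy : polar Q w y = 0) :
    ∃ t : F, y = t • w := by
  obtain ⟨z, hz, hwz⟩ := ND.partner hW hw hw0
  have hww : polar Q w w = 0 := by rw [polar_self, hQw, smul_zero]
  have hli : LinearIndependent F ![w, z] := by
    refine LinearIndependent.pair_iff.2 fun a b h => ?_
    have h1 := congrArg (fun v => polar Q w v) h
    simp only [polar_add_right, polar_smul_right, hww, smul_zero, mul_zero, zero_add, polar_zero_right,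
      smul_eq_mul, mul_eq_zero, hwz, or_false] at h1
    subst h1
    rw [zero_smul, add_zero] at h
    exact ⟨(smul_eq_zero.1 h).resolve_right hw0, rfl⟩
  have hspan : Submodule.span F (Set.range ![w, z]) = W := by
    refine Submodule.eq_of_le_of_finrank_le (Submodule.span_le.2 ?_) ?_
    · rintro _ ⟨i, rfl⟩
      fin_cases i
      exacts [hw, hz]
    · rw [finrank_span_eq_card hli, hW2, Fintype.card_fin]
  rw [← hspan, Submodule.mem_span_range_iff_exists_fun] at hy
  obtain ⟨a, rfl⟩ := hy
  simp only [Fin.sum_univ_two, Matrix.cons_val_zero, Matrix.cons_val_one] at hwy ⊢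
  simp only [polar_add_right, polar_smul_right, hww, smul_zero, mul_zero, zero_add, smul_eq_mul, mul_eq_zero, hwz,
    or_false] at hwy
  exact ⟨a 0, by rw [hwy, zero_smul, add_zero]⟩

end CfsgLib.Geo.SpFourOdd.Five
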