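import Cfsg.Agent.Geo.SympTv
import Cfsg.Agent.Quad.KleinSymp

/-!
The self-adjoint operators of trace zero on the four-dimensional symplectic space as a five-dimensional
orthogonal space, and the resulting map `Sp₄ → Ω₅`.
-/

set_option autoImplicit false
set_option linter.unusedSectionVars false

namespace CfsgLib.Geo.SpFourOdd

open Matrix Cfsg CfsgLib.Symp CfsgLib.Geo.SpTv QuadraticMap CfsgLib.Forms CfsgLib.Quad

variable {F : Type*} [Field F]

local notation "E" => Fin 2 ⊕ Fin 2 → F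
local notation "Mat" => Matrix (Fin 2 ⊕ Fin 2) (Fin 2 ⊕ Fin 2) F
local notation "GLE" => GL (Fin 2 ⊕ Fin 2) F
local notation "V5" => Unit ⊕ (Fin 2 ⊕ Fin 2) → F

/-- A vector of the five-space as an operator. -/
def op : (Unit ⊕ (Fin 2 ⊕ Fin 2) → F) →ₗ[F] Matrix (Fin 2 ⊕ Fin 2) (Fin 2 ⊕ Fin 2) F where
  toFun v := Matrix.fromBlocks
    !![v (Sum.inl ()), v (Sum.inr (Sum.inl 1)); v (Sum.inr (Sum.inr 1)), -v (Sum.inl ())]
    !![0, -v (Sum.inr (Sum.inl 0)); v (Sum.inr (Sum.inl 0)), 0]
    !![0, v (Sum.inr (Sum.inr 0)); -v (Sum.inr (Sum.inr 0)), 0]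
    !![v (Sum.inl ()), v (Sum.inr (Sum.inr 1)); v (Sum.inr (Sum.inl 1)), -v (Sum.inl ())]
  map_add' u v := by
    ext (i | i) (j | j) <;> fin_cases i <;> fin_cases j <;> simp [add_comm]
  map_smul' c v := by
    ext (i | i) (j | j) <;> fin_cases i <;> fin_cases j <;> simp

/-- The coordinates of an operator. -/
def opInv : Matrix (Fin 2 ⊕ Fin 2) (Fin 2 ⊕ Fin 2) F →ₗ[F] (Unit ⊕ (Fin 2 ⊕ Fin 2) → F) where
  toFun A := Sum.elim (fun _ => A (Sum.inl 0) (Sum.inl 0))
    (Sum.elim ![-A (Sum.inl 0) (Sum.inr 1), A (Sum.inl 0) (Sum.inl 1)]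
      ![A (Sum.inr 0) (Sum.inl 1), A (Sum.inl 1) (Sum.inl 0)])
  map_add' A B := by
    funext i; rcases i with u | i | i
    · simp
    · fin_cases i <;> simp [add_comm]
    · fin_cases i <;> simp
  map_smul' c A := by
    funext i; rcases i with u | i | i
    · simp
    · fin_cases i <;> simp
    · fin_cases i <;> simp

theorem opInv_op (v : V5) : opInv (op v) = v := by
  funext i; rcases i with u | i | i
  · simp [op, opInv]
  · fin_cases i <;> simp [op, opInv]
  · fin_cases i <;> simp [op, opInv]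

theorem op_injective : Function.Injective (op (F := F)) := Function.LeftInverse.injective opInv_op

theorem op_sq (v : V5) : op v * op v = oddQ 2 v • (1 : Mat) := by
  rw [oddQ_coe]
  ext (i | i) (j | j) <;> fin_cases i <;> fin_cases j <;>
    simp [op, Matrix.mul_apply, Fintype.sum_sum_type, Fin.sum_univ_two, Cfsg.quadFormOdd] <;> ring

theorem op_anticomm (u v : V5) : op u * op v + op v * op u = polar (oddQ 2) u v • (1 : Mat) := by
  have h := op_sq (u + v)
  rw [map_add, quad_add, Matrix.add_mul, Matrix.mul_add, Matrix.mul_add, op_sq, op_sq] at h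
  linear_combination (norm := module) h

theorem op_trace (v : V5) : Matrix.trace (op v) = 0 := by
  simp [op, Matrix.trace, Fintype.sum_sum_type, Fin.sum_univ_two]

/-- Self-adjointness. -/
def SelfAdj (A : Matrix (Fin 2 ⊕ Fin 2) (Fin 2 ⊕ Fin 2) F) : Prop :=
  ∀ x y : Fin 2 ⊕ Fin 2 → F, form (A *ᵥ x) y = form x (A *ᵥ y)

theorem op_selfAdj (v : V5) : SelfAdj (op v) := fun x y => by
  simp [form, op, Matrix.J, Matrix.mulVec, dotProduct, Matrix.one_apply, Fintype.sum_sum_type,
    Fin.sum_univ_two]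
  ring

/-- Self-adjoint operators of trace zero come from vectors. -/
theorem op_opInv (h2 : (2 : F) ≠ 0) {A : Mat} (hA : SelfAdj A) (ht : Matrix.trace A = 0) :
    op (opInv A) = A := by
  have h := fun i j => hA (Pi.single i 1) (Pi.single j 1)
  simp only [form, Matrix.mulVec_single_one] at h
  simp [Matrix.trace, Fintype.sum_sum_type, Fin.sum_univ_two] at ht
  have a1 := h (Sum.inl 0) (Sum.inl 0)
  have a2 := h (Sum.inl 0) (Sum.inl 1)
  have a3 := h (Sum.inl 1) (Sum.inl 1)
  have a4 := h (Sum.inr 0) (Sum.inr 0)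
  have a5 := h (Sum.inr 0) (Sum.inr 1)
  have a6 := h (Sum.inr 1) (Sum.inr 1)
  have b1 := h (Sum.inl 0) (Sum.inr 0)
  have b2 := h (Sum.inl 0) (Sum.inr 1)
  have b3 := h (Sum.inl 1) (Sum.inr 0)
  have b4 := h (Sum.inl 1) (Sum.inr 1)
  simp [Matrix.J, Matrix.mulVec, dotProduct, Matrix.one_apply, Fintype.sum_sum_type, Fin.sum_univ_two]
    at a1 a2 a3 a4 a5 a6 b1 b2 b3 b4
  have c1 : A (Sum.inr 0) (Sum.inl 0) = 0 :=
    (mul_eq_zero.1 (show (2 : F) * A (Sum.inr 0) (Sum.inl 0) = 0 by linear_combination a1)).resolve_left h2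
  have c3 : A (Sum.inr 1) (Sum.inl 1) = 0 :=
    (mul_eq_zero.1 (show (2 : F) * A (Sum.inr 1) (Sum.inl 1) = 0 by linear_combination a3)).resolve_left h2
  have c4 : A (Sum.inl 0) (Sum.inr 0) = 0 :=
    (mul_eq_zero.1 (show (2 : F) * A (Sum.inl 0) (Sum.inr 0) = 0 by linear_combination -a4)).resolve_left h2
  have c6 : A (Sum.inl 1) (Sum.inr 1) = 0 :=
    (mul_eq_zero.1 (show (2 : F) * A (Sum.inl 1) (Sum.inr 1) = 0 by linear_combination -a6)).resolve_left h2
  have hd : A (Sum.inl 0) (Sum.inl 0) + A (Sum.inl 1) (Sum.inl 1) = 0 := by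
    refine (mul_eq_zero.1 (show (2 : F) * (A (Sum.inl 0) (Sum.inl 0) + A (Sum.inl 1) (Sum.inl 1)) = 0 by
      linear_combination ht + b1 + b4)).resolve_left h2
  ext (i | i) (j | j) <;> fin_cases i <;> fin_cases j <;> simp [op, opInv]
  all_goals
    first
      | exact c1.symm
      | exact c3.symm
      | exact c4.symm
      | exact c6.symm
      | linear_combination a2
      | linear_combination -a2
      | linear_combination a5
      | linear_combination -a5
      | linear_combination b1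
      | linear_combination -b1
      | linear_combination b2
      | linear_combination -b2
      | linear_combination b3
      | linear_combination -b3
      | linear_combination b4 - hd
      | linear_combination hd - b4
      | linear_combination hd
      | linear_combination -hd
      | linear_combination b4 + hd
      | linear_combination -b4 - hd

/-- A matrix commuting with all operators is scalar. -/
theorem scalar_of_commute (h2 : (2 : F) ≠ 0) {M : Mat} (h : ∀ v : V5, M * op v = op v * M) :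
    ∃ c : F, M = c • (1 : Mat) := by
  have e1 := fun i j => congrFun (congrFun (h (Pi.single (Sum.inl ()) 1)) i) j
  have e2 := fun i j => congrFun (congrFun (h (Pi.single (Sum.inr (Sum.inl 1)) 1)) i) j
  have e3 := fun i j => congrFun (congrFun (h (Pi.single (Sum.inr (Sum.inr 1)) 1)) i) j
  have e4 := fun i j => congrFun (congrFun (h (Pi.single (Sum.inr (Sum.inl 0)) 1)) i) j
  simp [op, Matrix.mul_apply, Fintype.sum_sum_type, Fin.sum_univ_two] at e1 e2 e3 e4
  refine ⟨M (Sum.inl 0) (Sum.inl 0), ?_⟩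
  ext i j
  rcases i with i | i <;> rcases j with j | j <;> fin_cases i <;> fin_cases j <;> simp
  all_goals grind

variable [Finite F] (h2 : (2 : F) ≠ 0)
include h2

theorem conj_op_selfAdj {g : GLE} (hg : g ∈ spGL 2 F) (v : V5) :
    SelfAdj ((g : Mat) * op v * ((g⁻¹ : GLE) : Mat)) ∧
      Matrix.trace ((g : Mat) * op v * ((g⁻¹ : GLE) : Mat)) = 0 := by
  have _ := h2
  refine ⟨fun x y => ?_, ?_⟩
  · rw [← Matrix.mulVec_mulVec, ← Matrix.mulVec_mulVec, ← Matrix.mulVec_mulVec, ← Matrix.mulVec_mulVec]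
    conv_lhs => rw [← mulVec_inv_mulVec g y, form_mulVec hg, op_selfAdj v]
    rw [← form_mulVec hg, mulVec_inv_mulVec]
  · rw [Matrix.trace_mul_cycle, ← Units.val_mul, inv_mul_cancel, Units.val_one, Matrix.one_mul, op_trace]

/-- The action on the five-space. -/
theorem op_act {g : GLE} (hg : g ∈ spGL 2 F) (v : V5) :
    op (opInv ((g : Mat) * op v * ((g⁻¹ : GLE) : Mat))) = (g : Mat) * op v * ((g⁻¹ : GLE) : Mat) :=
  op_opInv h2 (conj_op_selfAdj h2 hg v).1 (conj_op_selfAdj h2 hg v).2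

omit h2 in
/-- The underlying linear map of the action. -/
def actMap (g : GL (Fin 2 ⊕ Fin 2) F) : (Unit ⊕ (Fin 2 ⊕ Fin 2) → F) →ₗ[F] (Unit ⊕ (Fin 2 ⊕ Fin 2) → F) :=
  opInv.comp ((LinearMap.mulLeftRight F ((g : Mat), ((g⁻¹ : GLE) : Mat))).comp op)

theorem op_actMap {g : GLE} (hg : g ∈ spGL 2 F) (v : V5) :
    op (actMap g v) = (g : Mat) * op v * ((g⁻¹ : GLE) : Mat) := by
  rw [← op_act h2 hg v]; rfl

theorem actMap_mul {g k : GLE} (hg : g ∈ spGL 2 F) (hk : k ∈ spGL 2 F) (v : V5) :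
    actMap (g * k) v = actMap g (actMap k v) := op_injective <| by
  rw [op_actMap h2 ((spGL 2 F).mul_mem hg hk), op_actMap h2 hg, op_actMap h2 hk, _root_.mul_inv_rev,
    Units.val_mul, Units.val_mul]
  simp only [Matrix.mul_assoc]

theorem actMap_one (v : V5) : actMap (1 : GLE) v = v := op_injective <| by
  rw [op_actMap h2 (spGL 2 F).one_mem]; simp

theorem actMap_Q {g : GLE} (hg : g ∈ spGL 2 F) (v : V5) : oddQ 2 (actMap g v) = oddQ 2 v := by
  have h := op_sq (actMap g v)
  rw [op_actMap h2 hg, show (g : Mat) * op v * ((g⁻¹ : GLE) : Mat) * ((g : Mat) * op v * ((g⁻¹ : GLE) : Mat)) =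
    (g : Mat) * (op v * op v) * ((g⁻¹ : GLE) : Mat) by
      simp only [Matrix.mul_assoc]; rw [← Matrix.mul_assoc ((g⁻¹ : GLE) : Mat) (g : Mat), Units.inv_mul, Matrix.one_mul],
    op_sq, Matrix.mul_smul, Matrix.mul_one, Matrix.smul_mul, Units.mul_inv] at h
  simpa using (congrFun (congrFun h (Sum.inl 0)) (Sum.inl 0)).symm

/-- The action as a linear equivalence. -/
def actEquiv {g : GLE} (hg : g ∈ spGL 2 F) : V5 ≃ₗ[F] V5 :=
  LinearEquiv.ofLinearMap (actMap g) (actMap g⁻¹)
    (LinearMap.ext fun v => by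
      rw [LinearMap.comp_apply, LinearMap.id_apply, ← actMap_mul h2 hg ((spGL 2 F).inv_mem hg),
        mul_inv_cancel, actMap_one h2])
    (LinearMap.ext fun v => by
      rw [LinearMap.comp_apply, LinearMap.id_apply, ← actMap_mul h2 ((spGL 2 F).inv_mem hg) hg,
        inv_mul_cancel, actMap_one h2])

theorem actEquiv_mem {g : GLE} (hg : g ∈ spGL 2 F) : actEquiv h2 hg ∈ oGroup (oddQ (F := F) 2) :=
  fun v => actMap_Q h2 hg v

/-- An element as an isometry of the five-space. -/
noncomputable def phiFun (g : spGL 2 F) : oGroup (oddQ (F := F) 2) := ⟨actEquiv h2 g.2, actEquiv_mem h2 g.2⟩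

/-- The map `Sp₄ → O₅`. -/
noncomputable def phi : spGL 2 F →* oGroup (oddQ (F := F) 2) :=
  MonoidHom.mk' (phiFun h2) fun g k => Subtype.ext (LinearEquiv.ext fun v => actMap_mul h2 g.2 k.2 v)

theorem op_phi (g : spGL 2 F) (v : V5) :
    op ((phi h2 g).1 v) = (g.1 : Mat) * op v * ((g.1⁻¹ : GLE) : Mat) := op_actMap h2 g.2 v

theorem phi_eq_one {g : spGL 2 F} (h : phi h2 g = 1) : (g.1 : Mat) = 1 ∨ (g.1 : Mat) = -1 := by
  have hc : ∀ v : V5, (g.1 : Mat) * op v = op v * (g.1 : Mat) := fun v => by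
    have h1 := op_phi h2 g v
    rw [h] at h1
    change op v = _ at h1
    conv_rhs => rw [h1, Matrix.mul_assoc, Units.inv_mul, Matrix.mul_one]
  obtain ⟨c, hc'⟩ := scalar_of_commute h2 hc
  obtain ⟨y, hy⟩ := exists_form_eq_one (Pi.single_ne_zero_iff.2 one_ne_zero : (Pi.single (Sum.inl 0) 1 : E) ≠ 0)
  have h3 := form_mulVec g.2 (Pi.single (Sum.inl 0) 1 : E) y
  rw [hc', Matrix.smul_mulVec, Matrix.smul_mulVec, Matrix.one_mulVec, Matrix.one_mulVec, form_smul_left,
    form_smul_right, hy, mul_one] at h3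
  rcases mul_self_eq_one_iff.1 h3 with rfl | rfl
  · exact Or.inl (by rw [hc', one_smul])
  · exact Or.inr (by rw [hc', neg_one_smul])

theorem phi_range : (phi h2).range = commutator (oGroup (oddQ (F := F) 2)) := by
  classical
  haveI := Fintype.ofFinite F
  haveI := finite_oGroup (oddQ (F := F) 2)
  set S := Matrix.symplecticGroup (Fin 2) F
  let ι : S →* spGL 2 F := toGLHom.codRestrict (spGL 2 F) toGLHom_mem
  have hι : Function.Surjective ι := fun g =>
    ⟨⟨(g.1 : Mat), CfsgLib.Symp.mem_iff_form.2 fun u v => form_mulVec g.2 u v⟩, Subtype.ext (Units.ext rfl)⟩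
  have hr : ((phi h2).comp ι).range = (phi h2).range := by
    rw [MonoidHom.range_comp, MonoidHom.range_eq_top.2 hι, MonoidHom.range_eq_map]
  rw [← hr]
  have hker : ((phi h2).comp ι).ker = Subgroup.center S := by
    ext g
    rw [MonoidHom.mem_ker, CfsgLib.Symp.mem_center_iff]
    refine ⟨fun h => phi_eq_one h2 h, fun h => Subtype.ext (LinearEquiv.ext fun v => op_injective ?_)⟩
    change op ((phi h2 (ι g)).1 v) = op v
    rw [op_phi]
    have hinv : ((ι g).1 : Mat) * op v = op v * ((ι g).1 : Mat) := by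
      change (g : Mat) * op v = op v * (g : Mat)
      rcases h with e | e <;> simp [e]
    rw [hinv, Matrix.mul_assoc, Units.mul_inv, Matrix.mul_one]
  have hk : Nat.card ((phi h2).comp ι).ker = 2 := by
    rw [hker, CfsgLib.Symp.card_center]
    have h0 := odd_card_of_two_ne h2
    have h1 : 1 < Nat.card F := Finite.one_lt_card
    obtain ⟨k, hk⟩ : 2 ∣ Nat.card F - 1 := Nat.dvd_of_mod_eq_zero (by omega)
    rw [hk]; exact Nat.gcd_eq_left ⟨k, rfl⟩
  refine range_eq_commutator_odd (oddQ_nondeg h2 2) h2 (by simp) _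
    (sqGen_of_perfect (CfsgLib.Symp.commutator_eq_top (l := Fin 2) (F := F) (Or.inr (Or.inl ⟨by simp, h2⟩)))) ?_
  rw [hk, CfsgLib.Symp.card_Sp]
  have h := card_oGroup_odd (F := F) (q := Nat.card F) rfl h2 2
  have h1 : ∀ k, 1 ≤ Nat.card F ^ k := fun k => Nat.one_le_pow _ _ Nat.card_pos
  apply Nat.cast_injective (R := ℤ)
  push_cast [h1]
  rw [h]
  simp [Finset.prod_range_succ]
  ring

end CfsgLib.Geo.SpFourOdd
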