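import Cfsg.Agent.Geo.SpFourOdd.Operators
import Cfsg.Agent.Geo.SpFourOdd.Five
import Cfsg.Agent.Geo.Transvection

/-!
The elements of `Sp₄` conjugating a skew-adjoint square root of a scalar to plus or minus itself form a maximal
subgroup over every field of odd order at least five.
-/

set_option autoImplicit false
set_option linter.unusedSectionVars false

namespace CfsgLib.Geo.SpFourOdd

open Matrix Cfsg CfsgLib.Symp CfsgLib.Geo.SpTv QuadraticMap CfsgLib.Forms CfsgLib.Quad CfsgLib.Geo.OS

variable {F : Type*} [Field F]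

local notation "E" => Fin 2 ⊕ Fin 2 → F
local notation "Mat" => Matrix (Fin 2 ⊕ Fin 2) (Fin 2 ⊕ Fin 2) F
local notation "GLE" => GL (Fin 2 ⊕ Fin 2) F
local notation "V5" => Unit ⊕ (Fin 2 ⊕ Fin 2) → F

/-- The vectors whose operators commute with `j`. -/
def commV (j : Matrix (Fin 2 ⊕ Fin 2) (Fin 2 ⊕ Fin 2) F) : Submodule F (Unit ⊕ (Fin 2 ⊕ Fin 2) → F) :=
  LinearMap.ker ((LinearMap.mulLeft F j - LinearMap.mulRight F j).comp op)

theorem mem_commV {j : Mat} {v : V5} : v ∈ commV j ↔ j * op v = op v * j := by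
  simp [commV, sub_eq_zero]

/-- A skew-adjoint square root of a non-zero scalar. -/
structure SkewRoot (j : Matrix (Fin 2 ⊕ Fin 2) (Fin 2 ⊕ Fin 2) F) (δ : F) : Prop where
  ne : δ ≠ 0
  sq : j * j = δ • (1 : Matrix (Fin 2 ⊕ Fin 2) (Fin 2 ⊕ Fin 2) F)
  skew : ∀ x y : Fin 2 ⊕ Fin 2 → F, form (j *ᵥ x) y = -form x (j *ᵥ y)

/-- The normal form. -/
def normalJ (α β δ : F) : Matrix (Fin 2 ⊕ Fin 2) (Fin 2 ⊕ Fin 2) F :=
  Matrix.fromBlocks 0 !![δ / α, 0; 0, δ / β] !![α, 0; 0, β] 0

theorem finrank_commV_normalJ {α β δ : F} (hα : α ≠ 0) (hβ : β ≠ 0) (hδ : δ ≠ 0) :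
    Module.finrank F (commV (normalJ α β δ)) = 3 := by
  let ψ : (Fin 3 → F) →ₗ[F] V5 :=
    { toFun := fun c => Sum.elim (fun _ => c 0)
        (Sum.elim ![-(δ / (α * β)) * c 2, c 1] ![c 2, α / β * c 1])
      map_add' := fun c c' => by
        funext i; rcases i with u | i | i
        · simp
        · fin_cases i <;> simp [mul_add, add_comm]
        · fin_cases i <;> simp [mul_add]
      map_smul' := fun r c => by
        funext i; rcases i with u | i | i
        · simp
        · fin_cases i <;> simp <;> ring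
        · fin_cases i <;> simp <;> ring }
  have hinj : Function.Injective ψ := fun c c' e => by
    funext i
    fin_cases i
    · exact congrFun e (Sum.inl ())
    · exact congrFun e (Sum.inr (Sum.inl 1))
    · exact congrFun e (Sum.inr (Sum.inr 0))
  have hrange : LinearMap.range ψ = commV (normalJ α β δ) := by
    refine le_antisymm ?_ fun v hv => ?_
    · rintro _ ⟨c, rfl⟩
      rw [mem_commV]
      ext (i | i) (k | k) <;> fin_cases i <;> fin_cases k <;>
        simp [ψ, normalJ, op, Matrix.mul_apply, Fintype.sum_sum_type, Fin.sum_univ_two] <;> field_simp <;> ring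
    · rw [mem_commV] at hv
      have e1 := congrFun (congrFun hv (Sum.inl 0)) (Sum.inl 1)
      have e2 := congrFun (congrFun hv (Sum.inr 0)) (Sum.inl 1)
      simp [normalJ, op, Matrix.mul_apply, Fintype.sum_sum_type, Fin.sum_univ_two] at e1 e2
      refine ⟨![v (Sum.inl ()), v (Sum.inr (Sum.inl 1)), v (Sum.inr (Sum.inr 0))], ?_⟩
      funext i
      rcases i with u | i | i
      · simp [ψ]
      · fin_cases i
        · simp [ψ]
          field_simp at e1 ⊢
          linear_combination -e1
        · simp [ψ]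
      · fin_cases i
        · simp [ψ]
        · simp [ψ]
          field_simp at e2 ⊢
          linear_combination e2
  rw [← hrange, LinearMap.finrank_range_of_inj hinj, Module.finrank_fintype_fun_eq_card, Fintype.card_fin]

variable {j : Matrix (Fin 2 ⊕ Fin 2) (Fin 2 ⊕ Fin 2) F} {δ : F} (hj : SkewRoot j δ) (h2 : (2 : F) ≠ 0)
include hj h2

theorem SkewRoot.mul_mulVec (x : E) : j *ᵥ (j *ᵥ x) = δ • x := by
  have _ := h2
  rw [Matrix.mulVec_mulVec, hj.sq, Matrix.smul_mulVec, Matrix.one_mulVec]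

/-- A symplectic basis putting `j` in normal form. -/
theorem exists_normal : ∃ g ∈ spGL 2 F, ∃ α β : F, α ≠ 0 ∧ β ≠ 0 ∧
    j * ((g : GLE) : Mat) = (g : Mat) * normalJ α β δ := by
  have hjj := hj.mul_mulVec h2
  have hsymm : ∀ a b : E, form b (j *ᵥ a) = form a (j *ᵥ b) := fun a b => by
    rw [form_swap b, hj.skew, neg_neg]
  have hjf : ∀ a b : E, form (j *ᵥ a) (j *ᵥ b) = -(δ * form a b) := fun a b => by
    rw [hj.skew, hjj, form_smul_right]
  have hne : (Pi.single (Sum.inl 0) 1 : E) ≠ 0 := Pi.single_ne_zero_iff.2 one_ne_zero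
  obtain ⟨x, hx⟩ : ∃ x : E, form x (j *ᵥ x) ≠ 0 := by
    by_contra hc
    push Not at hc
    obtain ⟨y, hy⟩ := exists_form_eq_one hne
    refine one_ne_zero (α := F) ?_
    have h := hc (Pi.single (Sum.inl 0) 1 + δ⁻¹ • (j *ᵥ y))
    rw [Matrix.mulVec_add, form_add_left, form_add_right, form_add_right, hc, hsymm (Pi.single (Sum.inl 0) 1 : E),
      show form (δ⁻¹ • (j *ᵥ y)) (j *ᵥ (δ⁻¹ • (j *ᵥ y))) = 0 from hc _,
      Matrix.mulVec_smul, hjj, smul_smul, inv_mul_cancel₀ hj.ne, one_smul, hy] at h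
    exact (mul_eq_zero.1 (show (2 : F) * 1 = 0 by linear_combination h)).resolve_left h2
  set α := form x (j *ᵥ x) with hα
  let π : E → E := fun z => z - (-form (j *ᵥ x) z / α) • x - (form x z / α) • (j *ᵥ x)
  have hπx : ∀ z, form x (π z) = 0 := fun z => by
    simp only [π, form_sub_right, form_smul_right, form_self, ← hα]
    field_simp
    ring
  have hπjx : ∀ z, form (j *ᵥ x) (π z) = 0 := fun z => by
    simp only [π, form_sub_right, form_smul_right, form_self, form_swap (j *ᵥ x) x, ← hα]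
    field_simp
    ring
  have hπj : ∀ z, π (j *ᵥ z) = j *ᵥ π z := fun z => by
    simp only [π, Matrix.mulVec_sub, Matrix.mulVec_smul, hjj, hjf, hj.skew x z]
    module
  obtain ⟨y, hxy, hxy', hy⟩ : ∃ y, form x y = 0 ∧ form (j *ᵥ x) y = 0 ∧ form y (j *ᵥ y) ≠ 0 := by
    by_contra hc
    push Not at hc
    have h0 : ∀ z, form (π z) (j *ᵥ π z) = 0 := fun z => hc _ (hπx z) (hπjx z)
    have hadd : ∀ a b, π (a + b) = π a + π b := fun a b => by
      simp only [π, form_add_right]
      module
    have h1 : ∀ a b, form (π a) (π (j *ᵥ b)) = 0 := fun a b => by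
      have h := h0 (a + b)
      rw [hadd, Matrix.mulVec_add, form_add_left, form_add_right, form_add_right, h0, h0,
        hsymm (π a) (π b), ← hπj] at h
      exact (mul_eq_zero.1 (show (2 : F) * form (π a) (π (j *ᵥ b)) = 0 by linear_combination h)).resolve_left h2
    have h3 : ∀ a b, form (π a) b = 0 := fun a b => by
      have h4 := h1 a (δ⁻¹ • (j *ᵥ b))
      rw [Matrix.mulVec_smul, hjj, smul_smul, inv_mul_cancel₀ hj.ne, one_smul] at h4
      have e : b = π b + ((-form (j *ᵥ x) b / α) • x + (form x b / α) • (j *ᵥ x)) := by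
        simp only [π]; abel
      rw [e, form_add_right, h4, form_add_right, form_smul_right, form_smul_right, form_swap (π a) x,
        form_swap (π a) (j *ᵥ x), hπx, hπjx]
      ring
    have hspan : ∀ z : E, z ∈ Submodule.span F ({x, j *ᵥ x} : Set E) := fun z => by
      have hz : π z = 0 := eq_zero_of_form_eq_zero fun b => by rw [form_swap, h3, neg_zero]
      refine Submodule.mem_span_pair.2 ⟨-form (j *ᵥ x) z / α, form x z / α, ?_⟩
      simp only [π] at hz
      linear_combination (norm := module) -hz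
    classical
    have h5 := (finrank_span_finset_le_card (R := F) ({x, j *ᵥ x} : Finset E)).trans Finset.card_le_two
    rw [Finset.coe_pair] at h5
    have h6 := Submodule.finrank_mono (show (⊤ : Submodule F E) ≤ Submodule.span F {x, j *ᵥ x} from fun z _ => hspan z)
    rw [finrank_top, Module.finrank_fintype_fun_eq_card, Fintype.card_sum, Fintype.card_fin] at h6
    change Module.finrank F (Submodule.span F ({x, j *ᵥ x} : Set E)) ≤ 2 at h5
    omega
  set β := form y (j *ᵥ y) with hβ
  let B : Fin 2 ⊕ Fin 2 → E := Sum.elim ![x, y] ![(-α)⁻¹ • (j *ᵥ x), (-β)⁻¹ • (j *ᵥ y)]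
  let G : Mat := Matrix.of fun r c => B c r
  have hG : ∀ u : E, G *ᵥ u = u (Sum.inl 0) • x + u (Sum.inl 1) • y +
      u (Sum.inr 0) • ((-α)⁻¹ • (j *ᵥ x)) + u (Sum.inr 1) • ((-β)⁻¹ • (j *ᵥ y)) := fun u => by
    funext r
    simp [G, B, Matrix.mulVec, dotProduct, Fintype.sum_sum_type, Fin.sum_univ_two]
    ring
  have c1 : form x (j *ᵥ y) = 0 := by rw [← neg_neg (form x (j *ᵥ y)), ← hj.skew, hxy', neg_zero]
  have hmem : G ∈ Matrix.symplecticGroup (Fin 2) F := by
    rw [mem_iff_form]
    intro u v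
    rw [hG, hG]
    have hfm : form u v = -(u (Sum.inl 0) * v (Sum.inr 0)) - u (Sum.inl 1) * v (Sum.inr 1) +
        u (Sum.inr 0) * v (Sum.inl 0) + u (Sum.inr 1) * v (Sum.inl 1) := by
      simp [form, Matrix.J, Matrix.mulVec, dotProduct, Matrix.one_apply, Fintype.sum_sum_type, Fin.sum_univ_two]
      ring
    rw [hfm]
    simp only [form_add_left, form_add_right, form_smul_left, form_smul_right, form_self, hjf, hxy, hxy',
      form_swap y x, form_swap y (j *ᵥ x), c1, form_swap (j *ᵥ y) x, form_swap (j *ᵥ x) x,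
      form_swap (j *ᵥ y) y, ← hα, ← hβ]
    field_simp
    ring
  refine ⟨toGLHom ⟨G, hmem⟩, toGLHom_mem _, -α, -β, neg_ne_zero.2 hx, neg_ne_zero.2 hy,
    Matrix.ext_iff_mulVec.2 fun u => ?_⟩
  change (j * G) *ᵥ u = (G * normalJ (-α) (-β) δ) *ᵥ u
  rw [← Matrix.mulVec_mulVec, ← Matrix.mulVec_mulVec, hG, hG]
  simp only [Matrix.mulVec_add, Matrix.mulVec_smul, hjj, normalJ, Matrix.fromBlocks_mulVec]
  simp [Matrix.mulVec, dotProduct, Fin.sum_univ_two]
  match_scalars <;> field_simp

variable [Finite F]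

theorem finrank_commV : Module.finrank F (commV j) = 3 := by
  obtain ⟨g, hg, α, β, hα, hβ, e⟩ := exists_normal hj h2
  have hmap : commV j = (commV (normalJ α β δ)).map (phi h2 ⟨g, hg⟩).1.toLinearMap := by
    have key : ∀ u, (phi h2 ⟨g, hg⟩).1 u ∈ commV j ↔ u ∈ commV (normalJ α β δ) := fun u => by
      rw [mem_commV, mem_commV, op_phi]
      change j * ((g : Mat) * op u * ((g⁻¹ : GLE) : Mat)) = (g : Mat) * op u * ((g⁻¹ : GLE) : Mat) * j ↔ _
      have hl : j * ((g : Mat) * op u * ((g⁻¹ : GLE) : Mat)) =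
          (g : Mat) * (normalJ α β δ * op u) * ((g⁻¹ : GLE) : Mat) := by
        rw [← Matrix.mul_assoc, ← Matrix.mul_assoc, e]; simp only [Matrix.mul_assoc]
      have hr : (g : Mat) * op u * ((g⁻¹ : GLE) : Mat) * j =
          (g : Mat) * (op u * normalJ α β δ) * ((g⁻¹ : GLE) : Mat) := by
        have e' : ((g⁻¹ : GLE) : Mat) * j = normalJ α β δ * ((g⁻¹ : GLE) : Mat) := by
          calc ((g⁻¹ : GLE) : Mat) * j = ((g⁻¹ : GLE) : Mat) * (j * (g : Mat)) * ((g⁻¹ : GLE) : Mat) := by
                rw [Matrix.mul_assoc, Matrix.mul_assoc, Units.mul_inv, Matrix.mul_one]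
            _ = _ := by rw [e, ← Matrix.mul_assoc, Units.inv_mul, Matrix.one_mul]
        rw [Matrix.mul_assoc, e']; simp only [Matrix.mul_assoc]
      rw [hl, hr, Units.mul_left_inj, Units.mul_right_inj]
    ext v
    refine ⟨fun hv => ?_, ?_⟩
    · obtain ⟨u, rfl⟩ := (phi h2 ⟨g, hg⟩).1.surjective v
      exact ⟨u, (key u).1 hv, rfl⟩
    · rintro ⟨u, hu, rfl⟩
      exact (key u).2 hu
  rw [hmap, LinearEquiv.finrank_map_eq, finrank_commV_normalJ hα hβ hj.ne]

omit [Finite F] in
theorem exists_split (v : V5) : ∃ u w, v + v = u + w ∧ j * op u = op u * j ∧ j * op w = -(op w * j) := by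
  set A := δ⁻¹ • (j * op v * j) with hA
  have hsa : SelfAdj A := fun x y => by
    simp only [hA, Matrix.smul_mulVec, ← Matrix.mulVec_mulVec, form_smul_left, form_smul_right, hj.skew,
      op_selfAdj v (j *ᵥ x) (j *ᵥ y)]
    ring
  have htr : Matrix.trace A = 0 := by
    rw [hA, Matrix.trace_smul, Matrix.trace_mul_cycle, hj.sq, Matrix.smul_mul, Matrix.one_mul,
      Matrix.trace_smul, op_trace, smul_zero, smul_zero]
  have hop := op_opInv h2 hsa htr
  have e1 : j * A = op v * j := by
    rw [hA, Matrix.mul_smul, Matrix.mul_assoc j, ← Matrix.mul_assoc j j, hj.sq, Matrix.smul_mul,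
      Matrix.one_mul, smul_smul, inv_mul_cancel₀ hj.ne, one_smul]
  have e2 : A * j = j * op v := by
    rw [hA, Matrix.smul_mul, Matrix.mul_assoc, hj.sq, Matrix.mul_smul, Matrix.mul_one, smul_smul,
      inv_mul_cancel₀ hj.ne, one_smul]
  refine ⟨v + opInv A, v - opInv A, by abel, ?_, ?_⟩
  · rw [map_add, hop, Matrix.mul_add, Matrix.add_mul, e1, e2, add_comm]
  · rw [map_sub, hop, Matrix.mul_sub, Matrix.sub_mul, e1, e2, neg_sub]

omit [Finite F] in
theorem polar_split {u w : V5} (hu : j * op u = op u * j) (hw : j * op w = -(op w * j)) :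
    polar (oddQ 2) u w = 0 := by
  have h := op_anticomm u w
  have h1 : j * (op u * op w + op w * op u) = -((op u * op w + op w * op u) * j) := by
    rw [Matrix.mul_add, Matrix.add_mul, neg_add, ← Matrix.mul_assoc, hu, Matrix.mul_assoc, hw,
      ← Matrix.mul_assoc j (op w), hw]
    simp [Matrix.mul_assoc, hu]
  rw [h, Matrix.mul_smul, Matrix.mul_one, Matrix.smul_mul, Matrix.one_mul, eq_neg_iff_add_eq_zero,
    ← two_smul F, smul_smul, smul_eq_zero] at h1
  rcases h1 with h1 | h1
  · exact (mul_eq_zero.1 h1).resolve_left h2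
  · exact absurd (by simpa [h1] using hj.sq.symm) hj.ne

theorem nd_commV : ND (oddQ 2) (commV j) := by
  refine (Submodule.eq_bot_iff _).2 fun v hv => (oddQ_nondeg h2 2).1 v fun y => ?_
  obtain ⟨u, w, e, hu, hw⟩ := exists_split hj h2 y
  have h1 : polar (oddQ 2) u v = 0 := hv.2 u (mem_commV.2 hu)
  have h3 : polar (oddQ 2) v w = 0 := polar_split hj h2 (mem_commV.1 hv.1) hw
  change polar (oddQ 2) v y = 0
  refine (mul_eq_zero.1 (show (2 : F) * polar (oddQ 2) v y = 0 from ?_)).resolve_left h2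
  rw [two_mul, ← polar_add_right, e, polar_add_right, polar_comm, h1, h3, add_zero]

/-- The stabiliser of the commuting three-space. -/
theorem mem_stab_iff (g : spGL 2 F) :
    phi h2 g ∈ stabO (oddQ 2) (commV j) ↔
      (g.1 : Mat) * j = j * (g.1 : Mat) ∨ (g.1 : Mat) * j = -(j * (g.1 : Mat)) := by
  set A := (g.1 : Mat)
  set A' := ((g.1⁻¹ : GLE) : Mat)
  have hAA : A * A' = 1 := Units.mul_inv g.1
  have hAA' : A' * A = 1 := Units.inv_mul g.1
  constructor
  · intro h
    set j' := A' * j * A with hj'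
    have hU : ∀ u, j * op u = op u * j → j' * op u = op u * j' := fun u hu => by
      have h1 := mem_commV.1 ((h u).2 (mem_commV.2 hu))
      rw [op_phi] at h1
      calc j' * op u = A' * (j * (A * op u * A')) * A := by
            simp only [hj', Matrix.mul_assoc]; rw [hAA', Matrix.mul_one]
        _ = A' * ((A * op u * A') * j) * A := by rw [h1]
        _ = op u * j' := by
            simp only [hj', Matrix.mul_assoc]; rw [← Matrix.mul_assoc A' A, hAA', Matrix.one_mul]
    have hW : ∀ w, j * op w = -(op w * j) → j' * op w = -(op w * j') := fun w hw => by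
      have hwp : w ∈ perpS (oddQ 2) (commV j) := fun u hu => polar_split hj h2 (mem_commV.1 hu) hw
      have h1 := ((stabO_perp h) w).2 hwp
      have h3 : j * op ((phi h2 g).1 w) = -(op ((phi h2 g).1 w) * j) := by
        obtain ⟨u, w', e, hu, hw'⟩ := exists_split hj h2 ((phi h2 g).1 w)
        have hu0 : u = 0 := ND.eq_zero (nd_commV hj h2) (mem_commV.2 hu) fun y hy => by
          have h5 : polar (oddQ 2) y (u + w') = 0 := by rw [← e, polar_add_right, h1 y hy, add_zero]
          rwa [polar_add_right, polar_split hj h2 (mem_commV.1 hy) hw', add_zero] at h5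
        rw [hu0, zero_add, ← two_smul F] at e
        rw [← e, map_smul, Matrix.mul_smul, Matrix.smul_mul, ← smul_neg] at hw'
        exact smul_right_injective _ h2 hw'
      rw [op_phi] at h3
      calc j' * op w = A' * (j * (A * op w * A')) * A := by
            simp only [hj', Matrix.mul_assoc]; rw [hAA', Matrix.mul_one]
        _ = A' * -((A * op w * A') * j) * A := by rw [h3]
        _ = -(op w * j') := by
            rw [Matrix.mul_neg, Matrix.neg_mul]
            simp only [hj', Matrix.mul_assoc]; rw [← Matrix.mul_assoc A' A, hAA', Matrix.one_mul]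
    have hall : ∀ v, (j * j') * op v = op v * (j * j') := fun v => by
      obtain ⟨u, w, e, hu, hw⟩ := exists_split hj h2 v
      have h1 : ((j * j') * op (v + v)) = op (v + v) * (j * j') := by
        have eu : j * j' * op u = op u * (j * j') := by
          rw [Matrix.mul_assoc j j' (op u), hU u hu, ← Matrix.mul_assoc j (op u) j', hu,
            Matrix.mul_assoc (op u) j j']
        have ew : j * j' * op w = op w * (j * j') := by
          rw [Matrix.mul_assoc j j' (op w), hW w hw, Matrix.mul_neg, ← Matrix.mul_assoc j (op w) j', hw,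
            Matrix.neg_mul, neg_neg, Matrix.mul_assoc (op w) j j']
        rw [e, map_add, Matrix.mul_add, Matrix.add_mul, eu, ew]
      rw [map_add, Matrix.mul_add, Matrix.add_mul, ← two_smul F, ← two_smul F (op v * (j * j'))] at h1
      exact smul_right_injective _ h2 h1
    obtain ⟨c, hc⟩ := scalar_of_commute h2 hall
    have hjA : j * A = A * j' := by
      simp only [hj', ← Matrix.mul_assoc]; rw [hAA, Matrix.one_mul]
    have h3 : δ • j' = c • j := by
      have := congrArg (fun X => j * X) hc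
      simpa [← Matrix.mul_assoc, hj.sq, Matrix.smul_mul, Matrix.mul_smul] using this
    have hsq : j' * j' = δ • (1 : Mat) := by
      calc j' * j' = A' * (j * j) * A := by
            simp only [hj', Matrix.mul_assoc]; rw [← Matrix.mul_assoc A A', hAA, Matrix.one_mul]
        _ = _ := by rw [hj.sq]; simp [Matrix.mul_smul, Matrix.smul_mul, hAA']
    have h4 := congrArg (fun X => X * X) h3
    simp only [Matrix.smul_mul, Matrix.mul_smul, smul_smul, hsq, hj.sq] at h4
    have h5 := congrFun (congrFun h4 (Sum.inl 0)) (Sum.inl 0)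
    simp at h5
    have h6 : δ * δ = c * c := mul_right_cancel₀ hj.ne (by linear_combination h5)
    have hinj := smul_right_injective Mat hj.ne
    rcases mul_self_eq_mul_self_iff.1 h6 with h7 | h7
    · left
      rw [hjA]
      congr 1
      exact (hinj (show δ • j' = δ • j by rw [h3, h7])).symm
    · right
      rw [hjA, hinj (show δ • j' = δ • (-j) by rw [h3, smul_neg, ← neg_smul, h7, neg_neg]), Matrix.mul_neg,
        neg_neg]
  · intro h
    refine mem_stabO_of_le fun u hu => ?_
    rw [mem_commV] at hu ⊢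
    rw [op_phi]
    rcases h with h | h
    · have h' : j * A' = A' * j := by
        calc j * A' = A' * (A * j) * A' := by rw [← Matrix.mul_assoc, hAA', Matrix.one_mul]
          _ = A' * j := by rw [h, ← Matrix.mul_assoc, Matrix.mul_assoc (A' * j), hAA, Matrix.mul_one]
      calc j * (A * op u * A') = A * (j * op u) * A' := by simp only [← Matrix.mul_assoc]; rw [← h]
        _ = A * op u * A' * j := by rw [hu]; simp only [Matrix.mul_assoc]; rw [h']
    · have h' : j * A' = -(A' * j) := by
        calc j * A' = A' * (A * j) * A' := by rw [← Matrix.mul_assoc, hAA', Matrix.one_mul]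
          _ = -(A' * j) := by
            rw [h, Matrix.mul_neg, Matrix.neg_mul, ← Matrix.mul_assoc, Matrix.mul_assoc (A' * j), hAA,
              Matrix.mul_one]
      calc j * (A * op u * A') = -(A * (j * op u) * A') := by
            simp only [← Matrix.mul_assoc]; rw [h, Matrix.neg_mul, Matrix.neg_mul, neg_neg]
        _ = A * op u * A' * j := by
            rw [hu]; simp only [Matrix.mul_assoc]; rw [h', Matrix.mul_neg, Matrix.mul_neg, neg_neg]

/-- Maximality. -/
theorem skew_maximal (h5 : 5 ≤ Nat.card F) {N : Subgroup GLE}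
    (hN : ∀ g ∈ spGL 2 F, g ∈ N ↔ (g : Mat) * j = j * (g : Mat) ∨ (g : Mat) * j = -(j * (g : Mat))) :
    Geo.IsMaximalIn (spGL 2 F) (N ⊓ spGL 2 F) := by
  have hQ := oddQ_nondeg (F := F) h2 2
  have hn : Module.finrank F V5 = 5 := by simp
  have hU := nd_commV hj h2
  have hU3 := finrank_commV hj h2
  refine isMaximalIn_of_key (fun hle => ?_) fun M hM hMI hMX => ?_
  · refine Five.three_proper hQ h2 hn h5 hU hU3 fun x hx => ?_
    obtain ⟨g, rfl⟩ : x ∈ (phi h2).range := by rw [phi_range h2]; exact hx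
    exact (mem_stab_iff hj h2 g).2 ((hN g.1 g.2).1 (hle g.2))
  · intro y hy
    set M' := (M.subgroupOf (spGL 2 F)).map (phi h2)
    have hM' : stabO (oddQ 2) (commV j) ⊓ commutator (oGroup (oddQ (F := F) 2)) ≤ M' := by
      rintro x ⟨hx1, hx2⟩
      obtain ⟨g, rfl⟩ : x ∈ (phi h2).range := by rw [phi_range h2]; exact hx2
      exact ⟨g, hM ⟨(hN g.1 g.2).2 ((mem_stab_iff hj h2 g).1 hx1), g.2⟩, rfl⟩
    have hnle : ¬ M' ≤ stabO (oddQ 2) (commV j) := fun h => hMX fun g hg =>
      (hN g (hMI hg)).2 ((mem_stab_iff hj h2 ⟨g, hMI hg⟩).1 (h ⟨⟨g, hMI hg⟩, hg, rfl⟩))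
    have hall := Five.three_key hQ h2 hn h5 hU hU3 hM' hnle
    obtain ⟨k, hk, hke⟩ := hall ((phi_range h2).le ⟨⟨y, hy⟩, rfl⟩)
    have hd : phi h2 (k⁻¹ * ⟨y, hy⟩) = 1 := by rw [map_mul, map_inv, hke, inv_mul_cancel]
    have hdN : (k⁻¹ * (⟨y, hy⟩ : spGL 2 F) : spGL 2 F).1 ∈ M := by
      refine hM ⟨(hN _ (k⁻¹ * (⟨y, hy⟩ : spGL 2 F)).2).2 (Or.inl ?_), (k⁻¹ * (⟨y, hy⟩ : spGL 2 F)).2⟩
      rcases phi_eq_one h2 hd with e | e <;> rw [e] <;> simp
    have := M.mul_mem (Subgroup.mem_subgroupOf.1 hk) hdN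
    simpa using this

end CfsgLib.Geo.SpFourOdd
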