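import Cfsg.Agent.Geo.SpFourOdd.Skew
import Cfsg.Prelude.Def_GeometricClasses

/-!
The Lagrangian-pair stabiliser and the normaliser of a field which is closed under adjoints but not
self-adjoint are maximal in `Sp₄(q)`, `q ≥ 5` odd.
-/

set_option autoImplicit false
set_option linter.unusedSectionVars false

namespace CfsgLib.Geo.SpFourOdd

open Matrix Cfsg CfsgLib.Symp CfsgLib.Geo.SpTv

variable {F : Type*} [Field F] [Finite F]

local notation "E" => Fin 2 ⊕ Fin 2 → F
local notation "Mat" => Matrix (Fin 2 ⊕ Fin 2) (Fin 2 ⊕ Fin 2) F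
local notation "GLE" => GL (Fin 2 ⊕ Fin 2) F

theorem lag_pair_maximal (h2 : (2 : F) ≠ 0) (h5 : 5 ≤ Nat.card F)
    (D : Fin 2 → Submodule F (Fin 2 ⊕ Fin 2 → F)) (hD : Geo.IsMDecomposition 2 D)
    (hts : ∀ i, Geo.IsTotallySingularFor (sympForm 2 F) (D i)) :
    Geo.IsMaximalIn (spGL 2 F) (Geo.decompositionStabilizer D ⊓ spGL 2 F) := by
  classical
  have hc : IsCompl (D 0) (D 1) := ⟨hD.indep.pairwiseDisjoint (by decide), by
    rw [codisjoint_iff, eq_top_iff, ← hD.iSup_eq_top, iSup_le_iff]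
    intro i
    fin_cases i
    exacts [le_sup_left, le_sup_right]⟩
  set P := Submodule.prodEquivOfIsCompl (D 0) (D 1) hc
  set J : E →ₗ[F] E := ((D 0).subtype.coprod (-(D 1).subtype)).comp P.symm.toLinearMap
  set j : Mat := LinearMap.toMatrix' J
  have hval : ∀ w ∈ D 0, ∀ u ∈ D 1, j *ᵥ (w + u) = w - u := fun w hw u hu => by
    have hP : P.symm (w + u) = (⟨w, hw⟩, ⟨u, hu⟩) := by
      rw [LinearEquiv.symm_apply_eq]
      simp [P]
    rw [show j *ᵥ (w + u) = J (w + u) from LinearMap.toMatrix'_mulVec J _]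
    simp [J, hP, sub_eq_add_neg]
  have hsplit : ∀ x : E, ∃ w ∈ D 0, ∃ u ∈ D 1, x = w + u := fun x => by
    obtain ⟨⟨w, u⟩, rfl⟩ := P.surjective x
    exact ⟨w, w.2, u, u.2, by simp [P]⟩
  have hj : SkewRoot j 1 := by
    refine ⟨one_ne_zero, Matrix.ext_iff_mulVec.2 fun x => ?_, fun x y => ?_⟩
    · obtain ⟨w, hw, u, hu, rfl⟩ := hsplit x
      rw [← Matrix.mulVec_mulVec, hval w hw u hu, sub_eq_add_neg, hval w hw (-u) ((D 1).neg_mem hu),
        one_smul, Matrix.one_mulVec, sub_neg_eq_add]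
    · obtain ⟨w, hw, u, hu, rfl⟩ := hsplit x
      obtain ⟨w', hw', u', hu', rfl⟩ := hsplit y
      have e1 : form w w' = 0 := hts 0 w hw w' hw'
      have e2 : form u u' = 0 := hts 1 u hu u' hu'
      rw [hval w hw u hu, hval w' hw' u' hu', form_sub_left, form_add_right, form_add_right,
        form_add_left, form_sub_right, form_sub_right, e1, e2]
      ring
  have h0 : ∀ y, y ∈ D 0 ↔ j *ᵥ y = y := fun y => by
    refine ⟨fun hy => by simpa using hval y hy 0 (D 1).zero_mem, fun h => ?_⟩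
    obtain ⟨w, hw, u, hu, rfl⟩ := hsplit y
    rw [hval w hw u hu] at h
    have hu0 : (2 : F) • u = 0 := by linear_combination (norm := module) (-1 : F) • h
    rw [(smul_eq_zero.1 hu0).resolve_left h2, add_zero]
    exact hw
  have h1 : ∀ y, y ∈ D 1 ↔ j *ᵥ y = -y := fun y => by
    refine ⟨fun hy => by simpa using hval 0 (D 0).zero_mem y hy, fun h => ?_⟩
    obtain ⟨w, hw, u, hu, rfl⟩ := hsplit y
    rw [hval w hw u hu] at h
    have hw0 : (2 : F) • w = 0 := by linear_combination (norm := module) h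
    rw [(smul_eq_zero.1 hw0).resolve_left h2, zero_add]
    exact hu
  refine skew_maximal hj h2 h5 fun g hg => ?_
  constructor
  · rintro ⟨σ, hσ⟩
    have hmem : ∀ i, ∀ y ∈ D i, (g : Mat) *ᵥ y ∈ D (σ i) := fun i y hy => by
      rw [← hσ i]
      exact ⟨y, hy, Matrix.toLin'_apply _ _⟩
    rcases ((by decide : ∀ k : Fin 2, k = 0 ∨ k = 1) (σ 0)) with h | h
    · have h' : σ 1 = 1 := ((by decide : ∀ k : Fin 2, k = 0 ∨ k = 1) (σ 1)).resolve_left fun e =>
        absurd (σ.injective (e.trans h.symm)) (by decide)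
      refine Or.inl (Matrix.ext_iff_mulVec.2 fun x => ?_)
      obtain ⟨w, hw, u, hu, rfl⟩ := hsplit x
      have mw := h ▸ hmem 0 w hw
      have mu := h' ▸ hmem 1 u hu
      rw [← Matrix.mulVec_mulVec, ← Matrix.mulVec_mulVec, hval w hw u hu, Matrix.mulVec_sub,
        Matrix.mulVec_add, hval _ mw _ mu]
    · have h' : σ 1 = 0 := ((by decide : ∀ k : Fin 2, k = 0 ∨ k = 1) (σ 1)).resolve_right fun e =>
        absurd (σ.injective (e.trans h.symm)) (by decide)
      refine Or.inr (Matrix.ext_iff_mulVec.2 fun x => ?_)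
      obtain ⟨w, hw, u, hu, rfl⟩ := hsplit x
      have mw := h ▸ hmem 0 w hw
      have mu := h' ▸ hmem 1 u hu
      rw [Matrix.neg_mulVec, ← Matrix.mulVec_mulVec, ← Matrix.mulVec_mulVec, hval w hw u hu,
        Matrix.mulVec_sub, Matrix.mulVec_add, add_comm, hval _ mu _ mw, neg_sub]
  · intro h
    have hinj : Function.Injective (Matrix.toLin' (g : Mat)) := by
      intro a b hab
      rw [Matrix.toLin'_apply, Matrix.toLin'_apply] at hab
      have := congrArg (fun v => ((g⁻¹ : GLE) : Mat) *ᵥ v) hab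
      simpa [Matrix.mulVec_mulVec] using this
    have hmap : ∀ i i' : Fin 2, (∀ y ∈ D i, (g : Mat) *ᵥ y ∈ D i') →
        (D i).map (Matrix.toLin' (g : Mat)) = D i' := by
      intro i i' hle
      refine Submodule.eq_of_le_of_finrank_eq ?_ ?_
      · rintro _ ⟨y, hy, rfl⟩
        rw [Matrix.toLin'_apply]
        exact hle y hy
      · rw [← (Submodule.equivMapOfInjective _ hinj (D i)).finrank_eq, hD.finrank_eq, hD.finrank_eq]
    rcases h with h | h
    · have h' : ∀ y, j *ᵥ ((g : Mat) *ᵥ y) = (g : Mat) *ᵥ (j *ᵥ y) := fun y => by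
        rw [Matrix.mulVec_mulVec, Matrix.mulVec_mulVec, h]
      refine ⟨1, fun i => hmap i i ?_⟩
      fin_cases i
      · exact fun y hy => (h0 _).2 (by rw [h', (h0 y).1 hy])
      · exact fun y hy => (h1 _).2 (by rw [h', (h1 y).1 hy, Matrix.mulVec_neg])
    · have h' : ∀ y, j *ᵥ ((g : Mat) *ᵥ y) = -((g : Mat) *ᵥ (j *ᵥ y)) := fun y => by
        rw [Matrix.mulVec_mulVec, Matrix.mulVec_mulVec, h, Matrix.neg_mulVec, neg_neg]
      refine ⟨Equiv.swap 0 1, fun i => hmap i _ ?_⟩
      fin_cases i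
      · exact fun y hy => (h1 _).2 (by rw [h', (h0 y).1 hy])
      · exact fun y hy => (h0 _).2 (by rw [h', (h1 y).1 hy, Matrix.mulVec_neg, neg_neg])

theorem adjoint_field_maximal (h2 : (2 : F) ≠ 0) (h5 : 5 ≤ Nat.card F)
    {K : Subalgebra F (Matrix (Fin 2 ⊕ Fin 2) (Fin 2 ⊕ Fin 2) F)} (hK : Geo.IsFieldSubalgebra 2 K)
    (hac : Geo.IsAdjointClosedFor (sympForm 2 F) K) (hns : ¬ Geo.IsSelfAdjointFor (sympForm 2 F) K) :
    Geo.IsMaximalIn (spGL 2 F) (Geo.subalgebraNormalizer K ⊓ spGL 2 F) := by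
  classical
  obtain ⟨k, hk, x₀, y₀, hxy⟩ : ∃ k ∈ K, ∃ x y : E, form (k *ᵥ x) y ≠ form x (k *ᵥ y) := by
    by_contra hno
    push Not at hno
    exact hns fun k hk u v => hno k hk u v
  obtain ⟨k', hk', hadj'⟩ := hac k hk
  have hadj : ∀ u v : E, form (k *ᵥ u) v = form u (k' *ᵥ v) := hadj'
  set j : Mat := k - k' with hjdef
  have hjK : j ∈ K := K.sub_mem hk hk'
  have hskew : ∀ x y : E, form (j *ᵥ x) y = -form x (j *ᵥ y) := fun x y => by
    rw [hjdef, Matrix.sub_mulVec, Matrix.sub_mulVec, form_sub_left, form_sub_right, hadj x y,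
      form_swap (k' *ᵥ x), ← hadj y x, form_swap (k *ᵥ y)]
    ring
  have hjne : j ≠ 0 := fun h => hxy (by rw [hadj, ← sub_eq_zero.1 h])
  have hscal : ∀ c : F, (∀ x y : E, form ((c • (1 : Mat)) *ᵥ x) y = -form x ((c • (1 : Mat)) *ᵥ y)) →
      c = 0 := fun c h => by
    obtain ⟨y, hy⟩ := exists_form_eq_one
      (Pi.single_ne_zero_iff.2 one_ne_zero : (Pi.single (Sum.inl 0) 1 : E) ≠ 0)
    have := h (Pi.single (Sum.inl 0) 1) y
    rw [Matrix.smul_mulVec, Matrix.smul_mulVec, Matrix.one_mulVec, Matrix.one_mulVec, form_smul_left,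
      form_smul_right, hy, mul_one] at this
    exact (mul_eq_zero.1 (show (2 : F) * c = 0 by linear_combination this)).resolve_left h2
  have hj1 : j ∉ F ∙ (1 : Mat) := fun h => by
    obtain ⟨c, hc⟩ := Submodule.mem_span_singleton.1 h
    refine hjne ?_
    rw [← hc, hscal c (by rw [hc]; exact hskew), zero_smul]
  have hli : LinearIndependent F ![(1 : Mat), j] :=
    (LinearIndependent.pair_iff' one_ne_zero).2 fun a e => hj1 (Submodule.mem_span_singleton.2 ⟨a, e⟩)
  have hspan : Submodule.span F (Set.range ![(1 : Mat), j]) = Subalgebra.toSubmodule K := by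
    refine Submodule.eq_of_le_of_finrank_le (Submodule.span_le.2 ?_) ?_
    · rintro _ ⟨i, rfl⟩
      fin_cases i
      · exact K.one_mem
      · exact hjK
    · rw [Subalgebra.finrank_toSubmodule, hK.finrank_eq, finrank_span_eq_card hli, Fintype.card_fin]
  have hmem : ∀ m, m ∈ K ↔ ∃ a b : F, m = a • 1 + b • j := fun m => by
    rw [← Subalgebra.mem_toSubmodule, ← hspan,
      show Set.range ![(1 : Mat), j] = {1, j} by simp [Matrix.range_cons, Matrix.range_empty, Set.pair_comm],
      Submodule.mem_span_pair]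
    exact exists_congr fun a => exists_congr fun b => eq_comm
  obtain ⟨δ, b, hjj⟩ := (hmem _).1 (K.mul_mem hjK hjK)
  have hb : b = 0 := by
    by_contra hb
    obtain ⟨x, hx⟩ : ∃ x, j *ᵥ x ≠ 0 := by
      by_contra hno
      push Not at hno
      exact hjne (Matrix.ext_iff_mulVec.2 fun x => by rw [hno x, Matrix.zero_mulVec])
    obtain ⟨y, hy⟩ := exists_form_eq_one hx
    have h1 : form ((j * j) *ᵥ x) y = form x ((j * j) *ᵥ y) := by
      rw [← Matrix.mulVec_mulVec, ← Matrix.mulVec_mulVec, hskew, hskew, neg_neg]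
    rw [hjj, Matrix.add_mulVec, Matrix.add_mulVec, Matrix.smul_mulVec, Matrix.smul_mulVec,
      Matrix.smul_mulVec, Matrix.smul_mulVec, Matrix.one_mulVec, Matrix.one_mulVec, form_add_left,
      form_add_right, form_smul_left, form_smul_left, form_smul_right, form_smul_right] at h1
    have h3 := hskew x y
    rw [hy] at h3 h1
    exact mul_ne_zero h2 hb (by linear_combination h1 + b * h3)
  rw [hb, zero_smul, add_zero] at hjj
  have hδ : δ ≠ 0 := fun h0 => by
    rw [h0, zero_smul] at hjj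
    obtain ⟨i, -, hi⟩ := hK.inv j hjK hjne
    exact hjne (by rw [← Matrix.mul_one j, ← hi, ← Matrix.mul_assoc, hjj, Matrix.zero_mul])
  have hj : SkewRoot j δ := ⟨hδ, hjj, hskew⟩
  refine skew_maximal hj h2 h5 fun g hg => ?_
  set A : Mat := (g : Mat)
  set A' : Mat := ((g⁻¹ : GLE) : Mat)
  have hAA : A * A' = 1 := Units.mul_inv g
  have hA'A : A' * A = 1 := Units.inv_mul g
  constructor
  · intro hN
    obtain ⟨a, c, hac'⟩ := (hmem _).1 ((hN j).1 hjK)
    change A * j * A' = _ at hac'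
    have hskew' : ∀ x y : E, form ((A * j * A') *ᵥ x) y = -form x ((A * j * A') *ᵥ y) := fun x y => by
      rw [← Matrix.mulVec_mulVec, ← Matrix.mulVec_mulVec, ← Matrix.mulVec_mulVec, ← Matrix.mulVec_mulVec]
      conv_lhs => rw [← mulVec_inv_mulVec g y, form_mulVec hg, hskew]
      rw [← form_mulVec hg, mulVec_inv_mulVec]
    have ha : a = 0 := hscal a fun x y => by
      have e := hskew' x y
      rw [hac', Matrix.add_mulVec, Matrix.add_mulVec, form_add_left, form_add_right,
        Matrix.smul_mulVec c j, Matrix.smul_mulVec c j, form_smul_left, form_smul_right] at e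
      linear_combination e - c * hskew x y
    rw [ha, zero_smul, zero_add] at hac'
    have hsq : (c * c * δ) • (1 : Mat) = δ • 1 := by
      calc (c * c * δ) • (1 : Mat) = (c • j) * (c • j) := by rw [smul_mul_smul_comm, hjj, smul_smul]
        _ = A * (j * (A' * A) * j) * A' := by rw [← hac']; simp only [Matrix.mul_assoc]
        _ = δ • 1 := by
          rw [hA'A, Matrix.mul_one, hjj, Matrix.mul_smul, Matrix.smul_mul, Matrix.mul_one, hAA]
    have hc : c * c = 1 := mul_right_cancel₀ hδ (by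
      have := congrFun (congrFun hsq (Sum.inl 0)) (Sum.inl 0)
      simpa using this)
    have e : A * j = c • (j * A) := by
      rw [← Matrix.smul_mul, ← hac', Matrix.mul_assoc, hA'A, Matrix.mul_one]
    rcases mul_self_eq_one_iff.1 hc with h | h
    · exact Or.inl (by rw [e, h, one_smul])
    · exact Or.inr (by rw [e, h, neg_one_smul])
  · intro h
    obtain ⟨s, hs, hAj⟩ : ∃ s : F, s * s = 1 ∧ A * j * A' = s • j := by
      rcases h with h | h
      · exact ⟨1, one_mul 1, by rw [h, Matrix.mul_assoc, hAA, Matrix.mul_one, one_smul]⟩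
      · exact ⟨-1, by ring, by rw [h, Matrix.neg_mul, Matrix.mul_assoc, hAA, Matrix.mul_one, neg_one_smul]⟩
    have hconj : ∀ a b : F, A * (a • (1 : Mat) + b • j) * A' = a • 1 + (b * s) • j := fun a b => by
      rw [Matrix.mul_add, Matrix.add_mul, Matrix.mul_smul, Matrix.mul_smul, Matrix.smul_mul,
        Matrix.smul_mul, Matrix.mul_one, hAA, hAj, smul_smul]
    intro m
    refine ⟨fun hm => ?_, fun hm => ?_⟩
    · obtain ⟨a, b, rfl⟩ := (hmem m).1 hm
      exact (hmem _).2 ⟨a, b * s, hconj a b⟩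
    · obtain ⟨a, b, hab⟩ := (hmem _).1 hm
      refine (hmem m).2 ⟨a, b * s, ?_⟩
      calc m = A' * (A * m * A') * A := by
            simp only [← Matrix.mul_assoc, hA'A, Matrix.one_mul]
            rw [Matrix.mul_assoc, hA'A, Matrix.mul_one]
        _ = A' * (a • (1 : Mat) + b • j) * A := by rw [hab]
        _ = A' * (A * (a • (1 : Mat) + (b * s) • j) * A') * A := by
            rw [hconj, mul_assoc b s s, hs, mul_one]
        _ = _ := by
            simp only [← Matrix.mul_assoc, hA'A, Matrix.one_mul]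
            rw [Matrix.mul_assoc, hA'A, Matrix.mul_one]

end CfsgLib.Geo.SpFourOdd
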