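/-
A subfield group is maximal in the symplectic group of every rank at least two in odd characteristic.
-/
import Cfsg.Agent.Geo.SympSubfieldOvergroup

set_option autoImplicit false
set_option linter.unusedSectionVars false

namespace CfsgLib.Geo.SpFourOdd

open Matrix Cfsg Cfsg.Geo CfsgLib.Symp CfsgLib.Geo.SpTv

variable {m : ℕ} {F : Type*} [Field F] [Finite F] {M : Subgroup (GL (Fin m ⊕ Fin m) F)}

local notation "E" => Fin m ⊕ Fin m → F
local notation "GLE" => GL (Fin m ⊕ Fin m) F

variable {F₀ : Subfield F} {P : GL (Fin m ⊕ Fin m) F} {ζ : F} (hS : SpSub m F F₀ P ζ)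
include hS

theorem spGL_le_of_scalar {r : ℕ} (h2 : (2 : F) ≠ 0) (hm : 2 ≤ m) (hr : r.Prime) (hcard : Nat.card F = Nat.card F₀ ^ r)
    (hM : subfieldSubgroup F₀ P ⊓ spGL m F ≤ M) (hMI : M ≤ spGL m F) {v w0 : E} (hv : InRS F₀ P v)
    (hv0 : v ≠ 0) (hw0 : InRS F₀ P w0) (hwv : w0 ∉ F ∙ v) (hwperp : form w0 v = 0) {μ : F} (hμ : μ ∉ F₀)
    (hVP : VP ζ M v (μ • w0)) : spGL m F ≤ M := by
  let S : Set F := {c | ∀ x, InRS F₀ P x → form x v = 0 → VP ζ M v (c • x)}
  let T : Set F := {c | stv v (ζ * c) ∈ M}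
  have hS0 : ∀ c ∈ F₀, c ∈ S := fun c hc x hx hxv => by
    obtain ⟨A, hA, hE⟩ := rat_se_mem hS hv (hx.smul hc) (by rw [form_smul_left, hxv, mul_zero])
    exact ⟨by rw [form_smul_left, hxv, mul_zero], A, hM hA, 0, hE⟩
  have hSadd : ∀ a ∈ S, ∀ b ∈ S, a + b ∈ S := fun a ha b hb x hx hxv => by
    rw [add_smul]; exact (ha x hx hxv).add (hb x hx hxv)
  have hSneg : ∀ a ∈ S, -a ∈ S := fun a ha x hx hxv => by rw [neg_smul]; exact (ha x hx hxv).neg
  have hSk : ∀ a ∈ S, ∀ k ∈ F₀, a * k ∈ S := fun a ha k hk x hx hxv => by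
    rw [← smul_smul]; exact ha _ (hx.smul hk) (by rw [form_smul_left, hxv, mul_zero])
  have hspan : ∀ x : E, x ∉ F ∙ v → x ∉ Submodule.span F (Set.range ![v]) := fun x h => by
    simpa [Matrix.range_cons, Matrix.range_empty] using h
  have hv1 : ∀ j : Fin 1, InRS F₀ P (![v] j) := fun j => by simpa using hv
  -- moving vector parts
  have hstvv : ∀ z : E, form z v = 0 → ∀ c : F, (stv z c : Matrix _ _ F) *ᵥ v = v := fun z hz c => by
    rw [stv_mulVec, form_swap, hz, neg_zero, mul_zero, zero_smul, add_zero]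
  have hmove : ∀ a : F, ∀ x z : E, InRS F₀ P z → form z v = 0 → VP ζ M v (a • x) → ∀ k ∈ F₀,
      VP ζ M v ((a * (k * be ζ x z)) • z) := by
    intro a x z hz hzv hx k hk
    have h1 := hx.conj hMI (hM (rat_stv_mem hS hz hk))
    rw [hstvv z hzv, Matrix.mulVec_smul, stv_mulVec, smul_add] at h1
    have h2 := h1.sub hx
    rw [add_sub_cancel_left, smul_smul] at h2
    rwa [show a * (k * be ζ x z) = a * (ζ * k * form x z) by simp only [be]; ring]
  have hμS : μ ∈ S := by
    intro x hx hxv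
    by_cases hxm : x ∈ F ∙ v
    · obtain ⟨c, rfl⟩ := Submodule.mem_span_singleton.1 hxm
      rw [smul_smul]; exact VP.centre v _
    obtain ⟨y1, hy1, e1, f1⟩ := exists_rs_dual hS ![v] hv1 hw0 (hspan _ hwv)
    obtain ⟨y2, hy2, e2, f2⟩ := exists_rs_dual hS ![v] hv1 hx (hspan _ hxm)
    have g1 : form y1 v = 0 := by rw [form_swap, show form v y1 = 0 by simpa using f1 0, neg_zero]
    have g2 : form y2 v = 0 := by rw [form_swap, show form v y2 = 0 by simpa using f2 0, neg_zero]
    obtain ⟨y, hy, hyv, a1, a2⟩ : ∃ y, InRS F₀ P y ∧ form y v = 0 ∧ be ζ w0 y ≠ 0 ∧ be ζ x y ≠ 0 := by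
      by_cases h1 : be ζ x y1 = 0
      · by_cases h2 : be ζ w0 y2 = 0
        · refine ⟨y1 + y2, hy1.add hy2, by rw [form_add_left, g1, g2, add_zero], ?_, ?_⟩
          · simp only [be, form_add_right, mul_add] at e1 h2 ⊢; rw [e1, h2, add_zero]; exact one_ne_zero
          · simp only [be, form_add_right, mul_add] at e2 h1 ⊢; rw [e2, h1, zero_add]; exact one_ne_zero
        · exact ⟨y2, hy2, g2, h2, by rw [e2]; exact one_ne_zero⟩
      · exact ⟨y1, hy1, g1, by rw [e1]; exact one_ne_zero, h1⟩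
    have h1 := hmove μ w0 y hy hyv hVP _ (F₀.inv_mem (be_mem hS hw0 hy))
    rw [inv_mul_cancel₀ a1, mul_one] at h1
    have a3 : be ζ y x ≠ 0 := by rw [be, form_swap, mul_neg, neg_ne_zero]; exact a2
    have h2 := hmove μ y x hx hxv h1 _ (F₀.inv_mem (be_mem hS hy hx))
    rwa [inv_mul_cancel₀ a3, mul_one] at h2
  -- long root elements from short ones
  have hkey : ∀ a ∈ S, ∀ w, InRS F₀ P w → form w v = 0 → w ∉ F ∙ v →
      ∃ A ∈ M, IsSE ζ A v (a • w) (-a ^ 2) := by
    intro a ha w hw hwv' hwm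
    obtain ⟨y, hy, hwy, hyu⟩ := exists_rs_dual hS ![v] hv1 hw (hspan _ hwm)
    have hyv : form (-y) v = 0 := by
      rw [← neg_one_smul F y, form_smul_left, form_swap, show form v y = 0 by simpa using hyu 0, neg_zero, mul_zero]
    obtain ⟨hay, A, hA, s, hs⟩ := ha (-y) hy.neg hyv
    have hgM := hM (rat_stv_mem hS hw F₀.one_mem)
    have hs' := hs.conj (hMI hgM)
    have hg : (stv w (ζ * 1) : Matrix _ _ F) *ᵥ (a • -y) = a • (-y + w) := by
      rw [Matrix.mulVec_smul, stv_mulVec, mul_one, ← neg_one_smul F y, form_smul_left, form_swap y w]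
      simp only [be] at hwy
      rw [show ζ * (-1 * -form w y) = 1 by linear_combination hwy, one_smul]
    rw [hstvv w hwv', hg] at hs'
    have hwy' : form (a • (-y + w)) v = 0 := by
      rw [form_smul_left, form_add_left, hyv, hwv', add_zero, mul_zero]
    have h2 := hs'.mul hwy' (by rw [← neg_one_smul F (a • -y), form_smul_left, hay, mul_zero]) (hs.inv hay)
    refine ⟨_, M.mul_mem (M.mul_mem (M.mul_mem hgM hA) (M.inv_mem hgM)) (M.inv_mem hA), ?_⟩
    have ex : a • (-y + w) + -(a • -y) = a • w := by module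
    have es : s + -s + be ζ (-(a • -y)) (a • (-y + w)) = -a ^ 2 := by
      rw [show -(a • -y) = a • y by module]
      simp only [be, form_smul_left, form_smul_right, form_add_right, ← neg_one_smul F y, form_self,
        form_swap y w] at hwy ⊢
      linear_combination (-a ^ 2) * hwy
    rwa [ex, es] at h2
  have hTsq : ∀ a ∈ S, -a ^ 2 ∈ T := by
    intro a ha
    obtain ⟨w, hw, hwu, hwm⟩ := exists_rs_perp hS ![v] hv1 ![v] (by omega)
    have c1 : form w v = 0 := by rw [form_swap, show form v w = 0 by simpa using hwu 0, neg_zero]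
    have m1 : w ∉ F ∙ v := by simpa [Matrix.range_cons, Matrix.range_empty] using hwm
    have m3 : w + w ∉ F ∙ v := by rwa [← two_smul F w, Submodule.smul_mem_iff _ h2]
    obtain ⟨A1, hA1, e1⟩ := hkey a ha w hw c1 m1
    obtain ⟨A3, hA3, e3⟩ := hkey a ha (w + w) (hw.add hw) (by rw [form_add_left, c1, add_zero]) m3
    have p1 : form (a • w) v = 0 := by rw [form_smul_left, c1, mul_zero]
    have p3 : form (a • (w + w)) v = 0 := by rw [form_smul_left, form_add_left, c1, add_zero, mul_zero]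
    have p4 : form (a • w + a • w) v = 0 := by rw [form_add_left, p1, add_zero]
    have h := (e1.mul p1 p1 e1).mul p4
      (by rw [← neg_one_smul F (a • (w + w)), form_smul_left, p3, mul_zero]) (e3.inv p3)
    have ex : a • w + a • w + -(a • (w + w)) = 0 := by module
    have es : -a ^ 2 + -a ^ 2 + be ζ (a • w) (a • w) + - -a ^ 2 +
        be ζ (-(a • (w + w))) (a • w + a • w) = -a ^ 2 := by
      simp only [be, ← neg_one_smul F (a • (w + w)), form_smul_left, form_smul_right, form_add_left,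
        form_add_right, form_self]
      ring
    rw [ex, es] at h
    change stv v (ζ * -a ^ 2) ∈ M
    rw [← h.eq_stv]
    exact M.mul_mem (M.mul_mem hA1 hA1) (M.inv_mem hA3)
  have hTS : ∀ τ ∈ T, ∀ a ∈ S, a * τ ∈ S := by
    intro τ hτ a ha x hx hxv
    by_cases hxm : x ∈ F ∙ v
    · obtain ⟨c, rfl⟩ := Submodule.mem_span_singleton.1 hxm
      rw [smul_smul]; exact VP.centre v _
    obtain ⟨A, hA, hAv⟩ := exists_rat_move hS hv hv0 hx (fun e => hxm (e ▸ Submodule.zero_mem _))
    have hxτ : stv x (ζ * τ) ∈ M := by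
      rw [← hAv, ← stv_conj (hA.2)]
      exact M.mul_mem (M.mul_mem (hM hA) hτ) (M.inv_mem (hM hA))
    obtain ⟨y, hy, hxy, hyu⟩ := exists_rs_dual hS ![v] hv1 hx (hspan _ hxm)
    have hyv : form (-y) v = 0 := by
      rw [← neg_one_smul F y, form_smul_left, form_swap, show form v y = 0 by simpa using hyu 0, neg_zero, mul_zero]
    have h0 := ha (-y) hy.neg hyv
    have h1 := h0.conj hMI hxτ
    rw [hstvv x hxv, Matrix.mulVec_smul, stv_mulVec, smul_add] at h1
    have h2 := h1.sub h0
    rw [add_sub_cancel_left, smul_smul] at h2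
    rwa [show a * (ζ * τ * form (-y) x) = a * τ by
      rw [← neg_one_smul F y, form_smul_left, form_swap y x]
      simp only [be] at hxy
      linear_combination a * τ * hxy] at h2
  -- the scalars form a subring
  have h1S : (1 : F) ∈ S := hS0 1 F₀.one_mem
  let R0 : Set F := {a | ∀ b ∈ S, a * b ∈ S}
  have hR0 : ∀ a ∈ R0, a ∈ S := fun a ha => by simpa using ha 1 h1S
  have hsq : ∀ a ∈ S, a ^ 2 ∈ R0 := fun a ha b hb => by
    have := hSneg _ (hTS _ (hTsq a ha) b hb)
    rwa [show -(b * -a ^ 2) = a ^ 2 * b by ring] at this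
  have hSR : ∀ a ∈ S, a ∈ R0 := by
    intro a ha
    by_cases h2 : (2 : F) = 0
    · haveI : CharP F 2 := CharTwo.of_one_ne_zero_of_two_eq_zero one_ne_zero h2
      haveI := Fintype.ofFinite S
      let f : S → S := fun b => ⟨(b : F) ^ 2, hR0 _ (hsq b b.2)⟩
      have hf : Function.Injective f := fun b c e => by
        have e1 : (b : F) ^ 2 = (c : F) ^ 2 := congrArg Subtype.val e
        exact Subtype.ext (frobenius_inj F 2 e1)
      obtain ⟨b, hb⟩ := Finite.surjective_of_injective hf ⟨a, ha⟩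
      rw [show a = (b : F) ^ 2 from (congrArg Subtype.val hb).symm]
      exact hsq b b.2
    · intro b hb
      have h4 : a * 2 * b ∈ S := by
        have e : a * 2 * b = (a + 1) ^ 2 * b + -(a ^ 2 * b) + -(1 ^ 2 * b) := by ring
        rw [e]
        exact hSadd _ (hSadd _ (hsq _ (hSadd a ha 1 h1S) b hb) _ (hSneg _ (hsq a ha b hb))) _
          (hSneg _ (hsq 1 h1S b hb))
      have h5 := hSk _ h4 (2 : F)⁻¹ (F₀.inv_mem (natCast_mem F₀ 2))
      rwa [show a * 2 * b * (2 : F)⁻¹ = a * b by field_simp] at h5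
  have huniv : ∀ c, c ∈ S := eq_univ_of_subring hr hcard hS0 hSadd
    (fun a ha b hb => hSR a ha b hb) hμS hμ
  have hTall : ∀ c, c ∈ T := by
    intro c
    by_cases h2 : (2 : F) = 0
    · haveI : CharP F 2 := CharTwo.of_one_ne_zero_of_two_eq_zero one_ne_zero h2
      obtain ⟨b, hb⟩ : ∃ b, frobenius F 2 b = c :=
        Finite.surjective_of_injective (frobenius_inj F 2) c
      have h1 := hTsq b (huniv b)
      rwa [CharTwo.neg_eq, show b ^ 2 = c from hb] at h1
    · have h1 : stv v (ζ * -(((c + 1) / 2) ^ 2)) ∈ M := hTsq _ (huniv _)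
      have h3 : stv v (ζ * -(((c - 1) / 2) ^ 2)) ∈ M := hTsq _ (huniv _)
      have h1' := M.inv_mem h1
      have e : (stv v (ζ * -(((c + 1) / 2) ^ 2)))⁻¹ = stv v (ζ * (((c + 1) / 2) ^ 2)) :=
        inv_eq_of_mul_eq_one_right (by
          rw [stv_add, ← mul_add, neg_add_cancel, mul_zero]
          exact gl_ext_mulVec fun x => by simp [stv_mulVec])
      rw [e] at h1'
      have h4 := M.mul_mem h1' h3
      rw [stv_add, ← mul_add, show ((c + 1) / 2) ^ 2 + -(((c - 1) / 2) ^ 2) = c by field_simp; ring] at h4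
      exact h4
  have hfullv : Full M v := fun c => by
    have h1 : stv v (ζ * (c / ζ)) ∈ M := hTall _
    rwa [mul_div_cancel₀ _ hS.ne_zero] at h1
  have hallv : ∀ x, form x v = 0 → VP ζ M v x := fun x hx =>
    perp_induction hS hv (p := fun x => VP ζ M v x) (VP.zero v) (fun a b ha hb => ha.add hb)
      (fun r c hr hrv => huniv c r hr hrv) hx
  refine spGL_le_of_vp hS.ne_zero hMI fun y hy => ?_
  obtain ⟨r, hr, hyr⟩ : ∃ r, InRS F₀ P r ∧ form y r ≠ 0 := by
    by_contra hcon
    push Not at hcon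
    obtain ⟨z, hz⟩ := exists_form_ne_zero hy
    refine hz ?_
    have hle : Submodule.span F {r | InRS F₀ P r ∧ ∀ φ : E →ₗ[F] F,
        (∀ x, InRS F₀ P x → φ x ∈ F₀) → φ z = 0 → φ r = 0} ≤ LinearMap.ker (beLin ζ y) :=
      Submodule.span_le.2 fun r hr => show be ζ y r = 0 by simp [be, hcon r hr.1]
    exact (form_eq_zero_iff hS).1 (hle (mem_span_rs z))
  have hr0 : r ≠ 0 := fun e => hyr (by rw [e, form_zero_right])
  obtain ⟨u, hu, hru, -⟩ := exists_rs_dual hS (Fin.elim0 : Fin 0 → E) (fun j => j.elim0) hr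
    (by simpa using hr0)
  have hru' : form r u ≠ 0 := fun e => by simp [be, e] at hru
  have hu0 : u ≠ 0 := fun e => hru' (by rw [e, form_zero_right])
  obtain ⟨A, hA, hAv⟩ := exists_rat_move hS hv hv0 hr hr0
  obtain ⟨B, hB, hBv⟩ := exists_rat_move hS hv hv0 hu hu0
  refine ⟨r, u, hyr, by rw [form_swap, neg_ne_zero]; exact hru', hAv ▸ full_conj hMI hfullv (hM hA),
    hBv ▸ full_conj hMI hfullv (hM hB), fun x hx => ?_⟩
  have h1 : VP ζ M v (((A⁻¹ : GLE) : Matrix (Fin m ⊕ Fin m) (Fin m ⊕ Fin m) F) *ᵥ x) :=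
    hallv _ (by rw [← form_mulVec hA.2, mulVec_inv_mulVec, hAv]; exact hx)
  have h2 := h1.conj hMI (hM hA)
  rwa [hAv, mulVec_inv_mulVec] at h2

/-- An irrational centre orthogonal to a rational vector. -/
theorem spGL_le_of_centre {r : ℕ} (h2 : (2 : F) ≠ 0) (hm : 2 ≤ m) (hr : r.Prime) (hcard : Nat.card F = Nat.card F₀ ^ r)
    (hM : subfieldSubgroup F₀ P ⊓ spGL m F ≤ M) (hMI : M ≤ spGL m F) {a v : E} (ha : ¬ IsPt F₀ P a)
    (hA : ∀ k ∈ F₀, stv a (ζ * k) ∈ M) (hv : InRS F₀ P v) (hv0 : v ≠ 0) (hav : form a v = 0) :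
    spGL m F ≤ M := by
  -- some product of two coordinates is irrational
  obtain ⟨v, hv, hv0, hav, x, w, hx, hw, hxv, hwv, hμ⟩ : ∃ v, InRS F₀ P v ∧ v ≠ 0 ∧ form a v = 0 ∧
      ∃ x w, InRS F₀ P x ∧ InRS F₀ P w ∧ form x v = 0 ∧ form w v = 0 ∧ be ζ x a * be ζ a w ∉ F₀ := by
    by_contra hcon
    push Not at hcon
    by_cases hall : ∀ w, InRS F₀ P w → form w v = 0 → form a w = 0
    · refine ha ?_
      have hmem : a ∈ F ∙ v := by
        by_contra hmem
        obtain ⟨z, hz, haz⟩ := exists_form_of_notMem (F ∙ v) hmem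
        have h1 := perp_induction hS hv (p := fun x => form a x = 0) (form_zero_right a)
          (fun x y hx hy => by rw [form_add_right, hx, hy, add_zero])
          (fun r c hr hrv => by rw [form_smul_right, hall r hr hrv, mul_zero])
          (x := z) (by rw [form_swap, hz v (Submodule.mem_span_singleton_self v), neg_zero])
        rw [h1] at haz
        exact zero_ne_one haz
      obtain ⟨c, hc⟩ := Submodule.mem_span_singleton.1 hmem
      exact ⟨c, v, hv, hc.symm⟩
    push Not at hall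
    obtain ⟨w0, hw0, hw0v, haw0⟩ := hall
    set β := be ζ a w0 with hβdef
    have hβ : β ≠ 0 := mul_ne_zero hS.ne_zero haw0
    have hprod : ∀ x w, InRS F₀ P x → InRS F₀ P w → form x v = 0 → form w v = 0 →
        be ζ x a * be ζ a w ∈ F₀ := fun x w hx hw => hcon v hv hv0 hav x w hx hw
    have hβ2 : β * β ∈ F₀ := by
      have h1 := F₀.neg_mem (hprod w0 w0 hw0 hw0 hw0v hw0v)
      rwa [be, form_swap w0 a, mul_neg, neg_mul, neg_neg] at h1
    have hratio : ∀ x, InRS F₀ P x → form x v = 0 → be ζ a x / β ∈ F₀ := fun x hx hxv => by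
      have h1 := F₀.div_mem (F₀.neg_mem (hprod w0 x hw0 hx hw0v hxv)) hβ2
      rwa [be, form_swap w0 a, mul_neg, neg_mul, neg_neg, show ζ * form a w0 = β from rfl,
        mul_div_mul_left _ _ hβ] at h1
    -- `a` is a combination of `v` and one rational vector
    obtain ⟨p, hp, hvp, -⟩ := exists_rs_dual hS (Fin.elim0 : Fin 0 → E) (fun j => j.elim0) hv
      (by simpa using hv0)
    let κ : E → E := fun e => e - be ζ v e • p
    have hκrs : ∀ e, InRS F₀ P e → InRS F₀ P (κ e) := fun e he => he.sub (hp.smul (be_mem hS hv he))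
    have hκv : ∀ e, form (κ e) v = 0 := fun e => by
      simp only [κ, form_sub_left, form_smul_left, form_swap p v, form_swap e v]
      have hvp' : ζ * form v p = 1 := hvp
      linear_combination (form v e) * hvp'
    set c := be ζ a p
    set r0 := β⁻¹ • (a - c • v) with hr0def
    have hdec : a = β • r0 + c • v := by
      rw [hr0def, smul_smul, mul_inv_cancel₀ hβ, one_smul, sub_add_cancel]
    have hr0rs : InRS F₀ P r0 := by
      refine inRS_of_pairing hS fun e he => ?_
      have h1 := hratio _ (hκrs e he) (hκv e)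
      have h2 : be ζ r0 e = be ζ a (κ e) / β := by
        simp only [hr0def, κ, c, be, form_smul_left, form_sub_left, form_sub_right, form_smul_right, div_eq_mul_inv]
        ring
      rwa [h2]
    clear_value r0
    have hr0v : form r0 v = 0 := by
      have h1 := hav
      rw [hdec, form_add_left, form_smul_left, form_smul_left, form_self, mul_zero, add_zero] at h1
      exact (mul_eq_zero.1 h1).resolve_left hβ
    have hindep : r0 ∉ F ∙ v := by
      intro h
      refine haw0 ?_
      obtain ⟨d, hd⟩ := Submodule.mem_span_singleton.1 h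
      rw [hdec, ← hd]
      simp only [form_add_left, form_smul_left, form_swap v w0, hw0v, neg_zero, mul_zero, add_zero]
    have hvr : v ∉ F ∙ r0 := by
      intro h
      obtain ⟨d, hd⟩ := Submodule.mem_span_singleton.1 h
      rcases eq_or_ne d 0 with rfl | hd0
      · exact hv0 (by rw [← hd, zero_smul])
      · exact hindep (Submodule.mem_span_singleton.2 ⟨d⁻¹, by rw [← hd, smul_smul, inv_mul_cancel₀ hd0, one_smul]⟩)
    obtain ⟨x0, hx0, e0, f0⟩ := exists_rs_dual hS ![v] (fun j => by simpa using hv) hr0rs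
      (by simpa [Matrix.range_cons, Matrix.range_empty] using hindep)
    obtain ⟨x1, hx1, e1, f1⟩ := exists_rs_dual hS ![r0] (fun j => by simpa using hr0rs) hv
      (by simpa [Matrix.range_cons, Matrix.range_empty] using hvr)
    have e0' : ζ * form r0 x0 = 1 := e0
    have e1' : ζ * form v x1 = 1 := e1
    have f0' : form v x0 = 0 := by simpa using f0 0
    have f1' : form r0 x1 = 0 := by simpa using f1 0
    have hvr0 : form v r0 = 0 := by rw [form_swap, hr0v, neg_zero]
    -- the two coordinates of `a`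
    have hr00 : r0 ≠ 0 := fun e => hindep (e ▸ Submodule.zero_mem _)
    have hc2 : c * c ∈ F₀ := by
      have h1 := F₀.neg_mem (hcon r0 hr0rs hr00
        (by rw [hdec, form_add_left, form_smul_left, form_smul_left, form_self, hvr0]; ring) x1 x1 hx1 hx1
        (by rw [form_swap, f1', neg_zero]) (by rw [form_swap, f1', neg_zero]))
      have hb : be ζ a x1 = c := by
        rw [hdec, be, form_add_left, form_smul_left, form_smul_left, f1']
        linear_combination c * e1'
      rwa [show be ζ x1 a = -be ζ a x1 by rw [be, be, form_swap x1 a, mul_neg], hb, neg_mul, neg_neg] at h1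
    have hcβ : (β - c) * (β - c) ∈ F₀ := by
      have hw1 : r0 + v ≠ 0 := fun e => hindep (Submodule.mem_span_singleton.2
        ⟨-1, by rw [neg_one_smul]; exact (eq_neg_of_add_eq_zero_left e).symm⟩)
      have hxw : form (x0 - x1) (r0 + v) = 0 := by
        have h1 : ζ * form (x0 - x1) (r0 + v) = 0 := by
          rw [form_sub_left, form_add_right, form_add_right, form_swap x0 r0, form_swap x0 v, form_swap x1 r0,
            form_swap x1 v, f0', f1']
          linear_combination e1' - e0'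
        exact (mul_eq_zero.1 h1).resolve_left hS.ne_zero
      have h1 := F₀.neg_mem (hcon (r0 + v) (hr0rs.add hv) hw1
        (by rw [hdec]; simp only [form_add_left, form_add_right, form_smul_left, form_self, hvr0, hr0v]; ring)
        (x0 - x1) (x0 - x1) (hx0.sub hx1) (hx0.sub hx1) hxw hxw)
      have hb : be ζ a (x0 - x1) = β - c := by
        rw [hdec, be, form_sub_right, form_add_left, form_add_left, form_smul_left, form_smul_left,
          form_smul_left, form_smul_left, f0', f1']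
        linear_combination β * e0' - c * e1'
      rwa [show be ζ (x0 - x1) a = -be ζ a (x0 - x1) by rw [be, be, form_swap (x0 - x1) a, mul_neg], hb,
        neg_mul, neg_neg] at h1
    have hcdiv : c / β ∈ F₀ := by
      have h1 := F₀.sub_mem (F₀.add_mem hc2 hβ2) hcβ
      rw [show c * c + β * β - (β - c) * (β - c) = c * β * 2 by ring] at h1
      have h3 := F₀.div_mem (F₀.div_mem h1 (natCast_mem F₀ 2)) hβ2
      rwa [Nat.cast_ofNat, mul_div_cancel_right₀ _ h2, mul_div_mul_right _ _ hβ] at h3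
    refine ha ⟨β, r0 + (c / β) • v, hr0rs.add (hv.smul hcdiv), ?_⟩
    rw [smul_add, smul_smul, mul_div_cancel₀ _ hβ]
    exact hdec
  have hT := hA 1 F₀.one_mem
  have hTv : (stv a (ζ * 1) : Matrix _ _ F) *ᵥ v = v := by
    rw [stv_mulVec, form_swap, hav, neg_zero, mul_zero, zero_smul, add_zero]
  obtain ⟨X, hX, hXe⟩ := rat_se_mem hS hv hx hxv
  have hVx : VP ζ M v x := ⟨hxv, X, hM hX, 0, hXe⟩
  have h1 := hVx.conj hMI hT
  rw [hTv, stv_mulVec, mul_one] at h1
  have h2v := h1.sub hVx
  rw [add_sub_cancel_left] at h2v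
  have h3 := h2v.conj hMI (hM (rat_stv_mem hS hw F₀.one_mem))
  rw [stv_mulVec (v := w) (x := v), form_swap v w, hwv, neg_zero, mul_zero, zero_smul, add_zero,
    Matrix.mulVec_smul, stv_mulVec, mul_one, smul_add] at h3
  have h4 := h3.sub h2v
  rw [add_sub_cancel_left, smul_smul] at h4
  have hne : be ζ x a * be ζ a w ≠ 0 := fun e => hμ (e ▸ F₀.zero_mem)
  refine spGL_le_of_scalar hS h2 hm hr hcard hM hMI hv hv0 hw (fun h => ?_) hwv hμ h4
  obtain ⟨d, rfl⟩ := Submodule.mem_span_singleton.1 h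
  exact hne (by simp only [be, form_smul_right, hav, mul_zero])

/-- The generic situation is impossible in odd characteristic. -/
theorem false_of_generic {r : ℕ} (h2 : (2 : F) ≠ 0) (hm : 2 ≤ m) (hr : r.Prime)
    (hcard : Nat.card F = Nat.card F₀ ^ r) (hM : subfieldSubgroup F₀ P ⊓ spGL m F ≤ M) (hMI : M ≤ spGL m F)
    (hg : Generic F₀ P M) (hMX : ¬ M ≤ subfieldSubgroup F₀ P) {x : GLE}
    (hx : x ∈ subfieldSubgroup F₀ P ⊓ spGL m F) (hx2 : x * x = 1) (hx1 : x ≠ 1) (hxn : x ≠ -1) : False := by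
  obtain ⟨g, hgM, hgX⟩ := SetLike.not_le_iff_exists.1 hMX
  have hr3 : 3 ≤ r := by
    have := two_mul_le_of_generic hS hm hcard hMI hg hgM hgX
    omega
  set y := g * x * g⁻¹ with hy
  have hyM : y ∈ M := M.mul_mem (M.mul_mem hgM (hM hx)) (M.inv_mem hgM)
  have hy2 : y * y = 1 := by
    rw [hy, show g * x * g⁻¹ * (g * x * g⁻¹) = g * (x * x) * g⁻¹ by group, hx2, mul_one, mul_inv_cancel]
  have hyn : y ≠ -1 := fun e => hxn (by
    rw [show x = g⁻¹ * y * g by rw [hy]; group, e, mul_neg, mul_one, neg_mul, inv_mul_cancel])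
  have hyX : y ∉ subfieldSubgroup F₀ P := fun hyX => hgX
    (mem_of_intertwine hS hm hr hr3 hcard hMI hg hgM ⟨hyX, hMI hyM⟩ hx hy2 hx1 hyn (by rw [hy]; group))
  refine hyX ?_
  have e1 : x⁻¹ = x := inv_eq_of_mul_eq_one_right hx2
  have e2 : y⁻¹ = y := inv_eq_of_mul_eq_one_right hy2
  rw [show y = y * x * x by rw [mul_assoc, hx2, mul_one]]
  refine Subgroup.mul_mem _ (mem_of_inverted hS hm hr hr3 hcard hMI hg (M.mul_mem hyM (hM hx)) hx hx2 hxn h2 ?_) hx.1
  rw [_root_.mul_inv_rev, e1, e2, mul_assoc, mul_assoc, hx2, mul_one]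

theorem spSub_key {r : ℕ} (h2 : (2 : F) ≠ 0) (hm : 2 ≤ m) (hr : r.Prime)
    (hcard : Nat.card F = Nat.card F₀ ^ r) (hM : subfieldSubgroup F₀ P ⊓ spGL m F ≤ M) (hMI : M ≤ spGL m F)
    (hMX : ¬ M ≤ subfieldSubgroup F₀ P) : spGL m F ≤ M := by
  by_cases hg : Generic F₀ P M
  · obtain ⟨u, hu, -, hu0⟩ := exists_rs_perp hS (Fin.elim0 : Fin 0 → E) (fun j => j.elim0)
      (Fin.elim0 : Fin 0 → E) (by omega)
    obtain ⟨u', hu', huu', -⟩ := exists_rs_dual hS (Fin.elim0 : Fin 0 → E) (fun j => j.elim0) hu hu0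
    obtain ⟨x, hx, hx2, hxv⟩ := exists_plane_involution hS hu hu' huu'
    obtain ⟨w, hw, hwu, hw0⟩ := exists_rs_perp hS ![u, u'] (Fin.forall_fin_two.2 ⟨hu, hu'⟩)
      (Fin.elim0 : Fin 0 → E) (by omega)
    have hxu : (x : Matrix _ _ F) *ᵥ u = -u := by
      rw [hxv]
      simp only [be, form_self, mul_zero, zero_smul, add_zero]
      simp only [be] at huu'
      rw [huu', mul_one]
      module
    refine (false_of_generic hS h2 hm hr hcard hM hMI hg hMX hx hx2 (fun e => ?_) fun e => ?_).elim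
    · rw [e, Units.val_one, Matrix.one_mulVec] at hxu
      refine hu0 ?_
      have : (2 : F) • u = 0 := by rw [two_smul]; nth_rewrite 2 [hxu]; exact add_neg_cancel u
      rw [(smul_eq_zero.1 this).resolve_left h2]
      exact Submodule.zero_mem _
    · have hxw := hxv w
      have c1 : form w u = 0 := by rw [form_swap, show form u w = 0 by simpa using hwu 0, neg_zero]
      have c2 : form w u' = 0 := by rw [form_swap, show form u' w = 0 by simpa using hwu 1, neg_zero]
      rw [e, Units.val_neg, Units.val_one, Matrix.neg_mulVec, Matrix.one_mulVec] at hxw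
      simp only [be, c1, c2, mul_zero, zero_smul, add_zero] at hxw
      refine hw0 ?_
      have : (2 : F) • w = 0 := by rw [two_smul]; nth_rewrite 2 [← hxw]; exact add_neg_cancel w
      rw [(smul_eq_zero.1 this).resolve_left h2]
      exact Submodule.zero_mem _
  · simp only [Generic, not_forall] at hg
    obtain ⟨g, hgM, u, v, hu, -, hv, hv0, huv, hpt⟩ := hg
    refine spGL_le_of_centre hS h2 hm hr hcard hM hMI hpt (fun k hk => ?_) hv hv0 huv
    rw [← stv_conj (hMI hgM)]
    exact M.mul_mem (M.mul_mem hgM (hM (rat_stv_mem hS hu hk))) (M.inv_mem hgM)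

theorem spSub_maximal {r : ℕ} (h2 : (2 : F) ≠ 0) (hm : 2 ≤ m) (hr : r.Prime)
    (hcard : Nat.card F = Nat.card F₀ ^ r) :
    IsMaximalIn (spGL m F) (subfieldSubgroup F₀ P ⊓ spGL m F) :=
  isMaximalIn_of_key (spSub_proper hS (by omega) hr hcard)
    fun _ h1 h3 h4 => spSub_key hS h2 hm hr hcard h1 h3 h4

end CfsgLib.Geo.SpFourOdd
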